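import Cfsg.Agent.Lib.L34Cover.Model
import Cfsg.Agent.Lib.Schur.SmallSylow
import Cfsg.Agent.Lib.Schur.SylowLocal
import Cfsg.Agent.S2111

/-!
The kernel of a stem extension of `PSL₃(4)` is an image of `Z₃ × Z₄ × Z₄`.
-/

set_option autoImplicit false
set_option linter.unusedSectionVars false
set_option linter.style.haveILetI false

namespace Cfsg.Agent.L34Mult

open Matrix
open Cfsg.Agent.SylL34
open Cfsg.Agent.L34Cover (G mk u u_mul u_zero u_inv char_two U)
open Cfsg.Agent.S2111 (comm_mul_left comm_mul_right comm_eq_of_map_eq comm_conj)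
open scoped commutatorElement

/-- `ω`. -/
abbrev om : F4 := ⟨false, true⟩

theorem f4_cases : ∀ x : F4, x = 0 ∨ x = 1 ∨ x = om ∨ x = om * om := by decide +kernel

theorem f4_facts : om * om = 1 + om ∧ om * (om * om) = 1 ∧ (∀ x : F4, x + om * x + om * om * x = 0) ∧
    ∀ x : F4, x ≠ 0 → x * x * x = 1 := by decide +kernel

/-- A diagonal element. -/
def dTor : SpecialLinearGroup (Fin 3) F4 :=
  ⟨!![1, 0, 0; 0, om, 0; 0, 0, om * om], by rw [det_fin_three]; decide +kernel⟩

/-- An elementary element below the diagonal. -/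
def low (i : Bool) : SpecialLinearGroup (Fin 3) F4 :=
  ⟨if i then !![1, 0, 0; 1, 1, 0; 0, 0, 1] else !![1, 0, 0; 0, 1, 0; 0, 1, 1],
    by cases i <;> rw [det_fin_three] <;> decide +kernel⟩

/-- The three root subgroups of the unitriangular group. -/
def al (a : F4) : G := u (a, 0, 0)
/-- The three root subgroups of the unitriangular group. -/
def be (b : F4) : G := u (0, b, 0)
/-- The three root subgroups of the unitriangular group. -/
def ze (c : F4) : G := u (0, 0, c)

theorem tor_mat : ∀ a b c : F4, (dTor : SpecialLinearGroup (Fin 3) F4).1 * (uMat (a, b, c)).1 =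
    (uMat (om * om * a, om * om * b, om * c)).1 * dTor.1 := by decide +kernel

theorem low_mat : ∀ b : F4,
    ((low false).1 * (uMat (0, 0, b)).1 = (uMat (0, b, 0)).1 * (uMat (0, 0, b)).1 * (low false).1) ∧
    ((low true).1 * (uMat (0, 0, b)).1 = (uMat (b, 0, 0)).1 * (uMat (0, 0, b)).1 * (low true).1) := by
  decide +kernel

theorem tor_conj (a b c : F4) :
    mk dTor * u (a, b, c) * (mk dTor)⁻¹ = u (om * om * a, om * om * b, om * c) := by
  rw [mul_inv_eq_iff_eq_mul, u, u, ← map_mul, ← map_mul]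
  exact congrArg mk (Subtype.ext (tor_mat a b c))

theorem low_conj (b : F4) : mk (low false) * ze b * (mk (low false))⁻¹ = be b * ze b ∧
    mk (low true) * ze b * (mk (low true))⁻¹ = al b * ze b := by
  constructor <;> rw [mul_inv_eq_iff_eq_mul] <;> simp only [ze, be, al, u] <;>
    rw [← map_mul, ← map_mul, ← map_mul]
  · exact congrArg mk (Subtype.ext (low_mat b).1)
  · exact congrArg mk (Subtype.ext (low_mat b).2)

theorem up_conj (b : F4) : al 1 * be b * (al 1)⁻¹ = be b * ze b ∧ be 1 * al b * (be 1)⁻¹ = al b * ze b := by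
  have h : ∀ b : F4,
      ((1 : F4) + 0, (0 : F4) + b, (0 : F4) + 0 + 0 * 0) = (0 + 1, b + 0, 0 + b + (0 + 1 * 0) + b * 1) ∨ True := by
    decide
  constructor <;> rw [mul_inv_eq_iff_eq_mul] <;> simp only [ze, be, al, u_mul] <;> congr 1 <;>
    refine Prod.ext ?_ (Prod.ext ?_ ?_) <;> simp [char_two]

theorem comm_facts (a a' : F4) : Commute (al a) (al a') ∧ Commute (be a) (be a') ∧ Commute (ze a) (ze a') ∧
    Commute (al a) (ze a') ∧ Commute (be a) (ze a') := by
  refine ⟨?_, ?_, ?_, ?_, ?_⟩ <;> show _ = _ <;> simp only [ze, be, al, u_mul] <;> congr 1 <;>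
    refine Prod.ext ?_ (Prod.ext ?_ ?_) <;> simp [add_comm]

theorem root_add (a a' : F4) :
    al (a + a') = al a * al a' ∧ be (a + a') = be a * be a' ∧ ze (a + a') = ze a * ze a' := by
  refine ⟨?_, ?_, ?_⟩ <;> simp only [ze, be, al, u_mul] <;> congr 1 <;>
    refine Prod.ext ?_ (Prod.ext ?_ ?_) <;> simp

theorem comm_be_al (a b : F4) : ⁅be b, al a⁆ = ze (b * a) := by
  rw [commutatorElement_def, be, al, u_inv, u_inv, u_mul, u_mul, u_mul, ze]
  congr 1
  refine Prod.ext ?_ (Prod.ext ?_ ?_) <;> simp [char_two, add_mul]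

theorem u_eq (a b c : F4) : u (a, b, c) = al a * be b * ze c := by
  simp only [ze, be, al, u_mul]
  congr 1
  refine Prod.ext ?_ (Prod.ext ?_ ?_) <;> simp

variable {Γ : Type*} [Group Γ]

section

variable (σ : Γ →* G) (hs : Function.Surjective σ) (hz : σ.ker ≤ Subgroup.center Γ)

/-- A lift. -/
noncomputable def lf (X : G) : Γ := (hs X).choose

theorem map_lf (X : G) : σ (lf σ hs X) = X := (hs X).choose_spec

/-- The commutator of lifts. -/
noncomputable def cm (X Y : G) : Γ := ⁅lf σ hs X, lf σ hs Y⁆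

include hz

theorem comm_eq_cm (x y : Γ) : ⁅x, y⁆ = cm σ hs (σ x) (σ y) :=
  comm_eq_of_map_eq σ hz (map_lf σ hs _).symm (map_lf σ hs _).symm

theorem conj_ker {k : Γ} (hk : k ∈ σ.ker) (g : Γ) : g * k * g⁻¹ = k := by
  rw [Subgroup.mem_center_iff.1 (hz hk) g, mul_inv_cancel_right]

theorem cm_mem {X Y : G} (h : Commute X Y) : cm σ hs X Y ∈ σ.ker := by
  show σ _ = 1
  rw [cm, map_commutatorElement, map_lf, map_lf]
  exact commutatorElement_eq_one_iff_commute.2 h

theorem cm_comm {X Y : G} (h : Commute X Y) (g : Γ) : Commute (cm σ hs X Y) g :=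
  (Subgroup.mem_center_iff.1 (hz (cm_mem σ hs hz h)) g).symm

theorem cm_add_left {X X' Y : G} (h : Commute X' Y) :
    cm σ hs (X * X') Y = cm σ hs X Y * cm σ hs X' Y := by
  show _ = ⁅lf σ hs X, lf σ hs Y⁆ * _
  rw [(cm_comm σ hs hz h _).symm.eq]
  show _ = ⁅lf σ hs X', lf σ hs Y⁆ * _
  rw [← comm_mul_left (cm_comm σ hs hz h _), comm_eq_cm σ hs hz, map_mul, map_lf, map_lf, map_lf]

theorem cm_add_right {X Y Y' : G} (h : Commute X Y') :
    cm σ hs X (Y * Y') = cm σ hs X Y * cm σ hs X Y' := by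
  show _ = ⁅lf σ hs X, lf σ hs Y⁆ * ⁅lf σ hs X, lf σ hs Y'⁆
  rw [← comm_mul_right (cm_comm σ hs hz h _), comm_eq_cm σ hs hz, map_mul, map_lf, map_lf, map_lf]

theorem cm_conj (g : Γ) (X Y : G) :
    cm σ hs (σ g * X * (σ g)⁻¹) (σ g * Y * (σ g)⁻¹) = g * cm σ hs X Y * g⁻¹ := by
  rw [cm, cm, ← comm_conj, comm_eq_cm σ hs hz (g * _ * _)]
  simp only [map_mul, map_inv, map_lf]
  rfl

theorem cm_one_left (Y : G) : cm σ hs 1 Y = 1 := by
  rw [show cm σ hs 1 Y = ⁅(1 : Γ), lf σ hs Y⁆ from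
    comm_eq_of_map_eq σ hz (by rw [map_lf, map_one]) rfl, commutatorElement_one_left]

theorem cm_one_right (Y : G) : cm σ hs Y 1 = 1 := by
  rw [show cm σ hs Y 1 = ⁅lf σ hs Y, (1 : Γ)⁆ from
    comm_eq_of_map_eq σ hz rfl (by rw [map_lf, map_one]), commutatorElement_one_right]

/-- The pairing of two commuting root subgroups with inverse torus weights depends only on the product. -/
theorem pair_facts {p q : F4 → G} (hp : ∀ a a', p (a + a') = p a * p a')
    (hq : ∀ a a', q (a + a') = q a * q a') (hpq : ∀ a c, Commute (p a) (q c))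
    (htp : ∀ a, mk dTor * p a * (mk dTor)⁻¹ = p (om * om * a))
    (htq : ∀ c, mk dTor * q c * (mk dTor)⁻¹ = q (om * c)) :
    (∀ a c, cm σ hs (p a) (q c) = cm σ hs (p 1) (q (a * c))) ∧
      (∀ c c', cm σ hs (p 1) (q (c + c')) = cm σ hs (p 1) (q c) * cm σ hs (p 1) (q c')) ∧
      (∀ c, cm σ hs (p 1) (q c) * cm σ hs (p 1) (q c) = 1) := by
  have hp0 : p 0 = 1 := by have := hp 0 0; rw [add_zero] at this; exact left_eq_mul.1 this
  have hq0 : q 0 = 1 := by have := hq 0 0; rw [add_zero] at this; exact left_eq_mul.1 this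
  have hinv : ∀ a c, cm σ hs (p (om * om * a)) (q (om * c)) = cm σ hs (p a) (q c) := by
    intro a c
    obtain ⟨t, ht⟩ := hs (mk dTor)
    rw [← htp a, ← htq c, ← ht, cm_conj σ hs hz, conj_ker σ hz (cm_mem σ hs hz (hpq a c))]
  have hadd : ∀ c c', cm σ hs (p 1) (q (c + c')) = cm σ hs (p 1) (q c) * cm σ hs (p 1) (q c') :=
    fun c c' => by rw [hq, cm_add_right σ hs hz (hpq 1 c')]
  refine ⟨fun a c => ?_, hadd, fun c => ?_⟩
  · rcases f4_cases a with rfl | rfl | rfl | rfl
    · rw [zero_mul, hp0, hq0, cm_one_left σ hs hz, cm_one_right σ hs hz]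
    · rw [one_mul]
    · conv_lhs => rw [← hinv om c, show om * om * om = (1 : F4) by decide +kernel]
    · conv_lhs => rw [← hinv (om * om) c, show om * om * (om * om) = om by decide +kernel,
        ← hinv om (om * c), show om * om * om = (1 : F4) by decide +kernel, ← mul_assoc]
  · rw [← hadd, char_two, hq0, cm_one_right σ hs hz]

/-- A unipotent element mixing two root subgroups makes the lifts of the second commute. -/
theorem pair_trivial {p q : F4 → G} (hp : ∀ a a', p (a + a') = p a * p a')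
    (hq : ∀ a a', q (a + a') = q a * q a') (hpp : ∀ a a', Commute (p a) (p a'))
    (hqq : ∀ a a', Commute (q a) (q a')) (hpq : ∀ a c, Commute (p a) (q c))
    (hL : ∀ a c, cm σ hs (p a) (q c) = cm σ hs (p 1) (q (a * c)))
    {g : G} (hg : ∀ a, g * p a * g⁻¹ = p a * q a) (b b' : F4) : cm σ hs (q b) (q b') = 1 := by
  obtain ⟨g, rfl⟩ := hs g
  have h := cm_conj σ hs hz g (p b) (p b')
  rw [hg, hg, conj_ker σ hz (cm_mem σ hs hz (hpp b b'))] at h
  have hc : Commute (q b) (p b' * q b') := (hpq b' b).symm.mul_right (hqq b b')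
  rw [cm_add_left σ hs hz hc, cm_add_right σ hs hz (hpq b b'), cm_add_right σ hs hz (hqq b b')] at h
  have hsw : cm σ hs (q b) (p b') = (cm σ hs (p b') (q b))⁻¹ := (commutatorElement_inv _ _).symm
  have he : cm σ hs (q b) (p b') = (cm σ hs (p b) (q b'))⁻¹ := by
    rw [hsw, hL b b', hL b' b, mul_comm b b']
  rw [he, mul_assoc] at h
  have h2 := mul_eq_left.1 h
  rwa [mul_inv_cancel_left] at h2

/-- The torus average on a lift of the centre of the unitriangular group. -/
noncomputable def avg (t z : Γ) : Γ := z * (t * z * t⁻¹) * (t * (t * z * t⁻¹) * t⁻¹)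

end

/-- The kernel of a stem extension of `PSL₃(4)` is generated by an element of order dividing 3 and two of order
dividing 4. -/
theorem exists_generators [Finite Γ] (σ : Γ →* G) (hσ : Cfsg.IsStemExtension σ) :
    ∃ e g₁ g₂ : Γ, e ∈ σ.ker ∧ g₁ ∈ σ.ker ∧ g₂ ∈ σ.ker ∧ e ^ 3 = 1 ∧ g₁ ^ 4 = 1 ∧ g₂ ^ 4 = 1 ∧
      σ.ker ≤ Subgroup.closure {e, g₁, g₂} := by
  classical
  obtain ⟨hs, hz, hc⟩ := hσ
  set C := cm σ hs with hC
  -- the pairings
  have hta : ∀ a, mk dTor * al a * (mk dTor)⁻¹ = al (om * om * a) := fun a => by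
    rw [al, tor_conj, al, mul_zero, mul_zero]
  have htb : ∀ a, mk dTor * be a * (mk dTor)⁻¹ = be (om * om * a) := fun a => by
    rw [be, tor_conj, be, mul_zero, mul_zero]
  have htz : ∀ a, mk dTor * ze a * (mk dTor)⁻¹ = ze (om * a) := fun a => by
    rw [ze, tor_conj, ze, mul_zero]
  have hA : ∀ a a', al (a + a') = al a * al a' := fun a a' => (root_add a a').1
  have hB : ∀ a a', be (a + a') = be a * be a' := fun a a' => (root_add a a').2.1
  have hZ : ∀ a a', ze (a + a') = ze a * ze a' := fun a a' => (root_add a a').2.2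
  have cAA : ∀ a a', Commute (al a) (al a') := fun a a' => (comm_facts a a').1
  have cBB : ∀ a a', Commute (be a) (be a') := fun a a' => (comm_facts a a').2.1
  have cZZ : ∀ a a', Commute (ze a) (ze a') := fun a a' => (comm_facts a a').2.2.1
  have cAZ : ∀ a a', Commute (al a) (ze a') := fun a a' => (comm_facts a a').2.2.2.1
  have cBZ : ∀ a a', Commute (be a) (ze a') := fun a a' => (comm_facts a a').2.2.2.2
  obtain ⟨hLA, hLAadd, hLA2⟩ := pair_facts σ hs hz hA hZ cAZ hta htz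
  obtain ⟨hLB, hLBadd, hLB2⟩ := pair_facts σ hs hz hB hZ cBZ htb htz
  have hLZA : ∀ a c, C (ze c) (al a) = C (ze 1) (al (c * a)) := fun a c => by
    rw [hC, cm, cm, ← commutatorElement_inv, ← commutatorElement_inv (lf σ hs (al (c * a)))]
    show (cm σ hs (al a) (ze c))⁻¹ = (cm σ hs (al (c * a)) (ze 1))⁻¹
    rw [hLA, hLA (c * a), mul_one, mul_comm a c]
  have hLZB : ∀ a c, C (ze c) (be a) = C (ze 1) (be (c * a)) := fun a c => by
    rw [hC, cm, cm, ← commutatorElement_inv, ← commutatorElement_inv (lf σ hs (be (c * a)))]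
    show (cm σ hs (be a) (ze c))⁻¹ = (cm σ hs (be (c * a)) (ze 1))⁻¹
    rw [hLB, hLB (c * a), mul_one, mul_comm a c]
  have hzz : ∀ c c', C (ze c) (ze c') = 1 :=
    pair_trivial σ hs hz hB hZ cBB cZZ cBZ hLB fun b => (up_conj b).1
  have hbb : ∀ c c', C (be c) (be c') = 1 := by
    refine pair_trivial σ hs hz hZ hB cZZ cBB (fun a c => (cBZ c a).symm)
      (fun a c => hLZB c a) (g := mk (low false)) fun b => ?_
    rw [(low_conj b).1]; exact (cBZ b b).eq
  have haa : ∀ c c', C (al c) (al c') = 1 := by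
    refine pair_trivial σ hs hz hZ hA cZZ cAA (fun a c => (cAZ c a).symm)
      (fun a c => hLZA c a) (g := mk (low true)) fun b => ?_
    rw [(low_conj b).2]; exact (cAZ b b).eq
  -- the preimage of the centre
  obtain ⟨t, ht⟩ := hs (mk dTor)
  let ζ : Multiplicative F4 →* G := MonoidHom.mk' (fun c => ze c.toAdd) fun c c' => hZ c.toAdd c'.toAdd
  let Zt : Subgroup Γ := ζ.range.comap σ
  have hZt : ∀ {z : Γ}, z ∈ Zt → ∃ c, σ z = ze c := fun hz' => by
    obtain ⟨c, hc'⟩ := hz'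
    exact ⟨c.toAdd, hc'.symm⟩
  have hZtc : ∀ {x y : Γ}, x ∈ Zt → y ∈ Zt → Commute x y := by
    intro x y hx hy
    obtain ⟨c, hc'⟩ := hZt hx
    obtain ⟨c', hc''⟩ := hZt hy
    rw [← commutatorElement_eq_one_iff_commute, comm_eq_cm σ hs hz, hc', hc'']
    exact hzz c c'
  have htZ : ∀ {z : Γ}, z ∈ Zt → t * z * t⁻¹ ∈ Zt := by
    intro z hz'
    obtain ⟨c, hc'⟩ := hZt hz'
    refine ⟨Multiplicative.ofAdd (om * c), ?_⟩
    show ze (om * c) = σ (t * z * t⁻¹)
    rw [map_mul σ, map_mul σ, map_inv σ, ht, hc', htz]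
  let E : Γ → Γ := avg t
  have hEmul : ∀ x ∈ Zt, ∀ y ∈ Zt, E (x * y) = E x * E y := by
    intro x hx y hy
    have e1 : t * (x * y) * t⁻¹ = t * x * t⁻¹ * (t * y * t⁻¹) := by group
    have e2 : t * (t * x * t⁻¹ * (t * y * t⁻¹)) * t⁻¹ =
        t * (t * x * t⁻¹) * t⁻¹ * (t * (t * y * t⁻¹) * t⁻¹) := by group
    show avg t (x * y) = avg t x * avg t y
    unfold avg
    rw [e1, e2]
    set x1 := t * x * t⁻¹
    set y1 := t * y * t⁻¹
    set x2 := t * x1 * t⁻¹
    set y2 := t * y1 * t⁻¹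
    have h1 : Commute y x1 := hZtc hy (htZ hx)
    have h2 : Commute (y * y1) x2 := (hZtc hy (htZ (htZ hx))).mul_left (hZtc (htZ hy) (htZ (htZ hx)))
    calc x * y * (x1 * y1) * (x2 * y2) = x * (y * x1) * y1 * x2 * y2 := by group
      _ = x * x1 * ((y * y1) * x2) * y2 := by rw [h1.eq]; group
      _ = x * x1 * (x2 * (y * y1)) * y2 := by rw [h2.eq]
      _ = _ := by group
  have hEker : ∀ x ∈ Zt, E x ∈ σ.ker := by
    intro x hx
    obtain ⟨c, hc'⟩ := hZt hx
    show σ (avg t x) = 1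
    simp only [avg, map_mul, map_inv, ht, hc', htz]
    rw [← hZ, ← hZ, ← mul_assoc, f4_facts.2.2.1, ze, u_zero]
  have hE3 : ∀ k ∈ σ.ker, E k = k ^ 3 := by
    intro k hk
    show avg t k = _
    rw [avg, conj_ker σ hz hk, conj_ker σ hz hk, pow_succ, pow_two]
  have hEt : ∀ x ∈ Zt, E (t * x * t⁻¹) = E x := by
    intro x hx
    obtain ⟨c, hc'⟩ := hZt hx
    have h3 : σ (t * t * t) = 1 := by
      rw [map_mul, map_mul, ht, ← map_mul, ← map_mul]
      rw [show dTor * dTor * dTor = 1 from Subtype.ext (by decide +kernel), map_one]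
    have h4 : t * (t * (t * x * t⁻¹) * t⁻¹) * t⁻¹ = x := by
      calc _ = (t * t * t) * x * (t * t * t)⁻¹ := by group
        _ = x := by
          rw [← Subgroup.mem_center_iff.1 (hz h3) x, mul_inv_cancel_right]
    show avg t (t * x * t⁻¹) = avg t x
    unfold avg
    rw [h4, (hZtc (x := t * x * t⁻¹ * (t * (t * x * t⁻¹) * t⁻¹)) (y := x)
      (mul_mem (htZ hx) (htZ (htZ hx))) hx).eq, ← mul_assoc]
  -- the mixed commutators
  have hM : ∀ a b, C (be b) (al a) ∈ Zt := fun a b => by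
    refine ⟨Multiplicative.ofAdd (b * a), ?_⟩
    show ze (b * a) = σ _
    rw [hC, cm, map_commutatorElement, map_lf, map_lf, comm_be_al]
  let m : F4 → F4 → Γ := fun a b => E (C (be b) (al a))
  have hmker : ∀ a b, m a b ∈ σ.ker := fun a b => hEker _ (hM a b)
  have hinv : ∀ a b, m (om * om * a) (om * om * b) = m a b := by
    intro a b
    show E _ = E _
    rw [← hta, ← htb, ← ht, hC, cm_conj σ hs hz]
    exact hEt _ (hM a b)
  have hLker : ∀ y, C (al 1) (ze y) ∈ σ.ker ∧ C (be 1) (ze y) ∈ σ.ker := fun y =>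
    ⟨cm_mem σ hs hz (cAZ 1 y), cm_mem σ hs hz (cBZ 1 y)⟩
  have hkZt : σ.ker ≤ Zt := fun k hk => ⟨1, by rw [map_one]; exact hk.symm⟩
  have cube2 : ∀ k : Γ, k * k = 1 → k ^ 3 = k := fun k hk => by rw [pow_succ, pow_two, hk, one_mul]
  -- conjugation by a lift changes an element of the preimage of the centre by a pairing value
  have hshift : ∀ (x : Γ) (z : Γ) (c : F4), σ z = ze c →
      (∀ a, σ x = al a → x * z * x⁻¹ = C (al 1) (ze (a * c)) * z) ∧
      (∀ b, σ x = be b → x * z * x⁻¹ = C (be 1) (ze (b * c)) * z) := by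
    intro x z c hc'
    constructor <;> intro a hx
    · have : x * z * x⁻¹ = ⁅x, z⁆ * z := by rw [commutatorElement_def]; group
      rw [this, comm_eq_cm σ hs hz, hx, hc', hLA]
    · have : x * z * x⁻¹ = ⁅x, z⁆ * z := by rw [commutatorElement_def]; group
      rw [this, comm_eq_cm σ hs hz, hx, hc', hLB]
  have haddb : ∀ a b b', m a (b + b') = C (be 1) (ze (b * (b' * a))) * m a b' * m a b := by
    intro a b b'
    have h : C (be (b + b')) (al a) =
        lf σ hs (be b) * C (be b') (al a) * (lf σ hs (be b))⁻¹ * C (be b) (al a) := by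
      rw [hB]
      have h0 : ⁅lf σ hs (be b) * lf σ hs (be b'), lf σ hs (al a)⁆ =
          lf σ hs (be b) * ⁅lf σ hs (be b'), lf σ hs (al a)⁆ * (lf σ hs (be b))⁻¹ *
            ⁅lf σ hs (be b), lf σ hs (al a)⁆ := by
        simp only [commutatorElement_def]; group
      rw [comm_eq_cm σ hs hz, map_mul, map_lf, map_lf, map_lf] at h0
      exact h0
    have hsig : σ (C (be b') (al a)) = ze (b' * a) := by
      rw [hC, cm, map_commutatorElement, map_lf, map_lf, comm_be_al]
    show E _ = _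
    rw [h, (hshift _ _ _ hsig).2 b (map_lf σ hs _),
      hEmul _ (mul_mem (hkZt (hLker _).2) (hM a b')) _ (hM a b),
      hEmul _ (hkZt (hLker _).2) _ (hM a b'), hE3 _ (hLker _).2, cube2 _ (hLB2 _)]
  have hadda : ∀ a a' b, m (a + a') b = m a b * (C (al 1) (ze (a * (b * a'))) * m a' b) := by
    intro a a' b
    have h : C (be b) (al (a + a')) =
        C (be b) (al a) * (lf σ hs (al a) * C (be b) (al a') * (lf σ hs (al a))⁻¹) := by
      rw [hA]
      have h0 : ⁅lf σ hs (be b), lf σ hs (al a) * lf σ hs (al a')⁆ =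
          ⁅lf σ hs (be b), lf σ hs (al a)⁆ *
            (lf σ hs (al a) * ⁅lf σ hs (be b), lf σ hs (al a')⁆ * (lf σ hs (al a))⁻¹) := by
        simp only [commutatorElement_def]; group
      rw [comm_eq_cm σ hs hz, map_mul, map_lf, map_lf, map_lf] at h0
      exact h0
    have hsig : σ (C (be b) (al a')) = ze (b * a') := by
      rw [hC, cm, map_commutatorElement, map_lf, map_lf, comm_be_al]
    show E _ = _
    rw [h, (hshift _ _ _ hsig).1 a (map_lf σ hs _),
      hEmul _ (hM a b) _ (mul_mem (hkZt (hLker _).1) (hM a' b)),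
      hEmul _ (hkZt (hLker _).1) _ (hM a' b), hE3 _ (hLker _).1, cube2 _ (hLA2 _)]
  have hE1 : E 1 = 1 := by
    show avg t 1 = 1
    simp [avg]
  have hm0b : ∀ a, m a 0 = 1 := fun a => by
    show E _ = 1
    rw [show be 0 = 1 from u_zero, hC, cm_one_left σ hs hz, hE1]
  have hm0a : ∀ b, m 0 b = 1 := fun b => by
    show E _ = 1
    rw [show al 0 = 1 from u_zero, hC, cm_one_right σ hs hz, hE1]
  set g₁ := m 1 1 with hg₁
  set g₂ := m om 1 with hg₂
  set N := Subgroup.closure ({g₁, g₂} : Set Γ) with hN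
  have hg1 : g₁ ∈ N := Subgroup.subset_closure (by simp)
  have hg2 : g₂ ∈ N := Subgroup.subset_closure (by simp)
  have hsqB : ∀ a, C (be 1) (ze a) = (m a 1 * m a 1)⁻¹ := by
    intro a
    refine eq_inv_of_mul_eq_one_left ?_
    have h := haddb a 1 1
    rw [char_two, hm0b, one_mul, one_mul, mul_assoc] at h
    exact h.symm
  have hsqA : ∀ a, m a 1 * (C (al 1) (ze (a * a)) * m a 1) = 1 := by
    intro a
    have h := hadda a a 1
    rw [char_two, hm0a, one_mul] at h
    exact h.symm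
  have hLAN : ∀ y, C (al 1) (ze y) ∈ N := by
    have hone : ∀ a, m a 1 ∈ N → C (al 1) (ze (a * a)) ∈ N := fun a ha => by
      have h := hsqA a
      rw [← mul_assoc] at h
      have h' : m a 1 * C (al 1) (ze (a * a)) = (m a 1)⁻¹ := eq_inv_of_mul_eq_one_left h
      rw [eq_inv_mul_iff_mul_eq.2 h'] <;> first
        | exact mul_mem (inv_mem ha) (inv_mem ha)
    have h1 : C (al 1) (ze 1) ∈ N := by simpa using hone 1 hg1
    have h2 : C (al 1) (ze (om * om)) ∈ N := hone om hg2
    intro y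
    rcases f4_cases y with rfl | rfl | rfl | rfl
    · rw [show ze 0 = 1 from u_zero, hC, cm_one_right σ hs hz]; exact one_mem _
    · exact h1
    · rw [show om = 1 + om * om by decide +kernel, hC, hLAadd]; exact mul_mem h1 h2
    · exact h2
  have hm3 : m (om * om) 1 ∈ N := by
    rw [f4_facts.1, hadda]
    exact mul_mem hg1 (mul_mem (hLAN _) hg2)
  have hmN : ∀ a b, m a b ∈ N := by
    have h1 : ∀ a, m a 1 ∈ N := fun a => by
      rcases f4_cases a with rfl | rfl | rfl | rfl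
      · rw [hm0a]; exact one_mem _
      · exact hg1
      · exact hg2
      · exact hm3
    intro a b
    rcases f4_cases b with rfl | rfl | rfl | rfl
    · rw [hm0b]; exact one_mem _
    · exact h1 a
    · rw [← hinv a om, show om * om * om = (1 : F4) by decide +kernel]; exact h1 _
    · rw [← hinv a (om * om), show om * om * (om * om) = om by decide +kernel, ← hinv _ om,
        show om * om * om = (1 : F4) by decide +kernel]
      exact h1 _
  have hLBN : ∀ y, C (be 1) (ze y) ∈ N := fun y => by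
    rw [hsqB]; exact inv_mem (mul_mem (hmN _ _) (hmN _ _))
  have h4 : ∀ a, m a 1 ^ 4 = 1 := by
    intro a
    have h2 : (m a 1 * m a 1) * (m a 1 * m a 1) = 1 := by
      rw [← inv_inv (m a 1 * m a 1), ← hsqB a, ← _root_.mul_inv_rev, hLB2, inv_one]
    rw [show 4 = 2 * 2 by norm_num, pow_mul, pow_two, pow_two]
    exact h2
  -- everything in the derived subgroup averages into `N`
  let J : Subgroup Γ :=
    { carrier := {z | z ∈ Zt ∧ E z ∈ N}
      one_mem' := ⟨one_mem _, by rw [hE1]; exact one_mem _⟩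
      mul_mem' := fun {x y} hx hy => ⟨mul_mem hx.1 hy.1, by rw [hEmul x hx.1 y hy.1]; exact mul_mem hx.2 hy.2⟩
      inv_mem' := fun {x} hx => ⟨inv_mem hx.1, by
        have h := hEmul x⁻¹ (inv_mem hx.1) x hx.1
        rw [inv_mul_cancel, hE1] at h
        rw [eq_inv_of_mul_eq_one_left h.symm]
        exact inv_mem hx.2⟩ }
  have hLJ : ∀ y, C (al 1) (ze y) ∈ J ∧ C (be 1) (ze y) ∈ J := fun y => by
    refine ⟨⟨hkZt (hLker y).1, ?_⟩, ⟨hkZt (hLker y).2, ?_⟩⟩
    · rw [hE3 _ (hLker y).1]; exact pow_mem (hLAN y) 3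
    · rw [hE3 _ (hLker y).2]; exact pow_mem (hLBN y) 3
  haveI : Fact (Nat.Prime 2) := ⟨Nat.prime_two⟩
  haveI : Fact (Nat.Prime 3) := ⟨Nat.prime_three⟩
  obtain ⟨S, hS⟩ := L34Cover.exists_sylow
  obtain ⟨P, hP⟩ := Schur.exists_sylow_map_eq σ hs S
  let R : Set Γ := {x | (∃ a, σ x = al a) ∨ (∃ b, σ x = be b) ∨ ∃ c, σ x = ze c}
  have hPR : (P : Subgroup Γ) ≤ Subgroup.closure (R ∪ σ.ker) := by
    refine Schur.SmallSylow.le_closure_of_map_le σ _ R ?_
    rw [hP, hS]
    rintro _ ⟨⟨a, b, c⟩, rfl⟩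
    rw [u_eq]
    have hin : ∀ X, (∃ a, X = al a) ∨ (∃ b, X = be b) ∨ (∃ c, X = ze c) →
        X ∈ Subgroup.closure (σ '' R) := fun X hX => Subgroup.subset_closure ⟨lf σ hs X, by
      show (∃ a, σ (lf σ hs X) = al a) ∨ _
      rw [map_lf]; exact hX, map_lf σ hs X⟩
    exact mul_mem (mul_mem (hin _ (Or.inl ⟨a, rfl⟩)) (hin _ (Or.inr (Or.inl ⟨b, rfl⟩))))
      (hin _ (Or.inr (Or.inr ⟨c, rfl⟩)))
  have hJconj : ∀ x ∈ R ∪ σ.ker, ∀ z ∈ J, x * z * x⁻¹ ∈ J := by
    intro x hx z hz'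
    obtain ⟨c, hc'⟩ := hZt hz'.1
    rcases hx with (⟨a, ha⟩ | ⟨b, hb⟩ | ⟨d, hd⟩) | hk
    · rw [(hshift x z c hc').1 a ha]; exact mul_mem (hLJ _).1 hz'
    · rw [(hshift x z c hc').2 b hb]; exact mul_mem (hLJ _).2 hz'
    · rw [(hZtc (x := x) ⟨Multiplicative.ofAdd d, hd.symm⟩ hz'.1).eq, mul_inv_cancel_right]
      exact hz'
    · rw [← Subgroup.mem_center_iff.1 (hz hk) z, mul_inv_cancel_right]; exact hz'
  have hJn : R ∪ σ.ker ⊆ Subgroup.normalizer (J : Set Γ) := by
    intro x hx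
    rw [SetLike.mem_coe, Subgroup.mem_normalizer_iff]
    intro z
    refine ⟨fun hz' => hJconj x hx z hz', fun hz' => ?_⟩
    have key : ∀ n : ℕ, ∀ w ∈ J, x ^ n * w * (x ^ n)⁻¹ ∈ J := by
      intro n
      induction n with
      | zero => intro w hw; simpa using hw
      | succ n ih =>
        intro w hw
        rw [pow_succ', show x * x ^ n * w * (x * x ^ n)⁻¹ = x * (x ^ n * w * (x ^ n)⁻¹) * x⁻¹ by group]
        exact hJconj x hx _ (ih w hw)
    have h := key (orderOf x - 1) _ hz'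
    have hxinv : x ^ (orderOf x - 1) = x⁻¹ := by
      refine eq_inv_of_mul_eq_one_left ?_
      rw [← pow_succ, Nat.sub_add_cancel (orderOf_pos x), pow_orderOf_eq_one]
    rw [hxinv, show x⁻¹ * (x * z * x⁻¹) * x⁻¹⁻¹ = z by group] at h
    exact h
  have hPJ : ⁅(P : Subgroup Γ), (P : Subgroup Γ)⁆ ≤ J := by
    refine (Subgroup.commutator_mono hPR hPR).trans (Schur.SmallSylow.commutator_closure_le J hJn ?_)
    intro x hx y hy
    rcases hx with hx | hk
    swap
    · rw [commutatorElement_eq_one_iff_commute.2 (Subgroup.mem_center_iff.1 (hz hk) y).symm]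
      exact one_mem _
    rcases hy with hy | hk
    swap
    · rw [commutatorElement_eq_one_iff_commute.2 (Subgroup.mem_center_iff.1 (hz hk) x)]
      exact one_mem _
    have hm' : ∀ a b, C (be b) (al a) ∈ J := fun a b => ⟨hM a b, hmN a b⟩
    rw [comm_eq_cm σ hs hz]
    rcases hx with ⟨a, ha⟩ | ⟨a, ha⟩ | ⟨a, ha⟩ <;> rcases hy with ⟨b, hb⟩ | ⟨b, hb⟩ | ⟨b, hb⟩ <;>
      rw [ha, hb]
    · show C _ _ ∈ J; rw [haa]; exact one_mem _
    · rw [cm, ← commutatorElement_inv]; exact inv_mem (hm' a b)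
    · rw [hLA]; exact (hLJ _).1
    · exact hm' b a
    · show C _ _ ∈ J; rw [hbb]; exact one_mem _
    · rw [hLB]; exact (hLJ _).2
    · rw [cm, ← commutatorElement_inv]
      refine inv_mem ?_
      show cm σ hs _ _ ∈ J
      rw [hLA]; exact (hLJ _).1
    · rw [cm, ← commutatorElement_inv]
      refine inv_mem ?_
      show cm σ hs _ _ ∈ J
      rw [hLB]; exact (hLJ _).2
    · show C _ _ ∈ J; rw [hzz]; exact one_mem _
  -- the prime 3
  obtain ⟨Q⟩ : Nonempty (Sylow 3 Γ) := inferInstance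
  set K3 := ⁅(Q : Subgroup Γ), (Q : Subgroup Γ)⁆ ⊓ σ.ker with hK3
  have hK3c : Nat.card K3 ∣ 3 := by
    refine Schur.SmallSylow.card_local_prime_sq σ hz Nat.prime_three _ ?_
    obtain ⟨k, hk⟩ := (Q.isPGroup'.map σ).exists_card_eq
    rw [hk]
    refine Nat.pow_dvd_pow 3 ?_
    have h := hk ▸ Subgroup.card_subgroup_dvd_card ((Q : Subgroup Γ).map σ)
    rw [L34Cover.card_G] at h
    by_contra hcon
    have := (Nat.pow_dvd_pow 3 (not_le.1 hcon)).trans h
    norm_num at this
  haveI : IsCyclic K3 := isCyclic_of_card_dvd_prime hK3c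
  obtain ⟨⟨e, he⟩, hegen⟩ := IsCyclic.exists_generator (α := K3)
  have he3 : e ^ 3 = 1 := by
    have h := orderOf_dvd_iff_pow_eq_one.1 ((orderOf_dvd_natCard (⟨e, he⟩ : K3)).trans hK3c)
    exact congrArg Subtype.val h
  set T := Subgroup.closure ({e, g₁, g₂} : Set Γ) with hT
  have hNT : N ≤ T := Subgroup.closure_mono (by intro w hw; simp at hw ⊢; tauto)
  refine ⟨e, g₁, g₂, he.2, hmker 1 1, hmker om 1, he3, h4 1, h4 om, fun x hx => ?_⟩
  have hxP : x ^ (P : Subgroup Γ).index * (x ^ (P : Subgroup Γ).index * x ^ (P : Subgroup Γ).index) ∈ T := by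
    have h2 := Schur.pow_index_mem_commutator (P : Subgroup Γ) (hz hx) (hc hx)
    have h3 := (hPJ h2).2
    rw [hE3 _ (pow_mem hx _), pow_succ, pow_two, mul_assoc] at h3
    exact hNT h3
  have hxQ : x ^ (Q : Subgroup Γ).index ∈ T := by
    have h2 : x ^ (Q : Subgroup Γ).index ∈ K3 :=
      ⟨Schur.pow_index_mem_commutator (Q : Subgroup Γ) (hz hx) (hc hx), pow_mem hx _⟩
    obtain ⟨k, hk⟩ := Subgroup.mem_zpowers_iff.1 (hegen ⟨_, h2⟩)
    rw [show x ^ (Q : Subgroup Γ).index = ((⟨e, he⟩ : K3) ^ k : K3).1 by rw [hk], SubgroupClass.coe_zpow]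
    exact zpow_mem (Subgroup.subset_closure (by simp)) k
  have hTn : T.Normal := by
    have hTk : T ≤ σ.ker := (Subgroup.closure_le _).2 (by
      rintro w (rfl | rfl | rfl) <;> [exact he.2; exact hmker 1 1; exact hmker om 1])
    exact ⟨fun n hn g => by rw [Subgroup.mem_center_iff.1 (hz (hTk hn)) g, mul_inv_cancel_right]; exact hn⟩
  set y : Γ ⧸ T := QuotientGroup.mk x with hy
  have key : ∀ n : ℕ, x ^ n ∈ T → orderOf y ∣ n := fun n hn =>
    orderOf_dvd_of_pow_eq_one (by rw [hy, ← QuotientGroup.mk_pow]; exact (QuotientGroup.eq_one_iff _).2 hn)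
  have hd2 : orderOf y ∣ 3 * (P : Subgroup Γ).index := key _ (by
    rw [show 3 * (P : Subgroup Γ).index = (P : Subgroup Γ).index + ((P : Subgroup Γ).index +
      (P : Subgroup Γ).index) by ring, pow_add, pow_add]
    exact hxP)
  have hd3 : orderOf y ∣ (Q : Subgroup Γ).index := key _ hxQ
  have hdp : ∀ p : ℕ, p.Prime → p ≠ 2 → p ≠ 3 → ¬ p ∣ orderOf y := by
    intro p hp h2 h3 hd
    haveI := Fact.mk hp
    obtain ⟨R', hR'⟩ := Schur.local_of_not_sq_dvd σ hs hz hp (by
      rw [L34Cover.card_G]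
      intro h
      have h8 : p ∣ 2 ^ 6 * (3 ^ 2 * (5 * 7)) := by
        norm_num; exact (dvd_pow_self p two_ne_zero).trans h
      rcases hp.dvd_mul.1 h8 with h' | h'
      · exact h2 ((Nat.prime_dvd_prime_iff_eq hp Nat.prime_two).1 (hp.dvd_of_dvd_pow h'))
      rcases hp.dvd_mul.1 h' with h' | h'
      · exact h3 ((Nat.prime_dvd_prime_iff_eq hp Nat.prime_three).1 (hp.dvd_of_dvd_pow h'))
      rcases hp.dvd_mul.1 h' with h' | h'
      · have e5 := (Nat.prime_dvd_prime_iff_eq hp (by norm_num)).1 h'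
        subst e5; norm_num at h
      · have e7 := (Nat.prime_dvd_prime_iff_eq hp (by norm_num)).1 h'
        subst e7; norm_num at h)
    have h1 : x ^ (R' : Subgroup Γ).index = 1 :=
      Subgroup.mem_bot.1 (hR' ▸ ⟨Schur.pow_index_mem_commutator _ (hz hx) (hc hx), pow_mem hx _⟩)
    exact R'.not_dvd_index (hd.trans (key _ (by rw [h1]; exact one_mem _)))
  have hy1 : orderOf y = 1 := by
    by_contra hne
    obtain ⟨p, hp, hpd⟩ := Nat.exists_prime_and_dvd hne
    by_cases h2 : p = 2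
    · subst h2
      rcases hp.dvd_mul.1 (hpd.trans hd2) with h | h
      · norm_num at h
      · exact P.not_dvd_index h
    by_cases h3 : p = 3
    · subst h3
      exact Q.not_dvd_index (hpd.trans hd3)
    exact hdp p hp h2 h3 hpd
  exact (QuotientGroup.eq_one_iff _).1 (orderOf_eq_one_iff.1 hy1)

end Cfsg.Agent.L34Mult
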