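import Cfsg.Agent.Lib.L34Mult.Data

/-!
Bound on the order of the monoid generated by the generators, level by level.
-/

set_option autoImplicit false

namespace Cfsg.Agent.L34Mult

open Matrix
open Cfsg.Agent.SylL34 (F4)

/-- The identity. -/
def pone : P :=
  (⟨⟨1, 0, 0, 0, 0, 0, 0, 0⟩, ⟨0, 1, 0, 0, 0, 0, 0, 0⟩, ⟨0, 0, 1, 0, 0, 0, 0, 0⟩, ⟨0, 0, 0, 1, 0, 0, 0, 0⟩,
    ⟨0, 0, 0, 0, 1, 0, 0, 0⟩, ⟨0, 0, 0, 0, 0, 1, 0, 0⟩, ⟨0, 0, 0, 0, 0, 0, 1, 0⟩, ⟨0, 0, 0, 0, 0, 0, 0, 1⟩⟩,
   ⟨e, o, o, o, e, o, o, o, e⟩)

theorem dec_pone : dec pone = 1 := by decide +kernel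

/-- The value of a list of digits. -/
def value : List (List P) → List ℕ → P
  | R :: Rs, d :: ds => pmul (R.getD d pone) (value Rs ds)
  | _, _ => pone

/-- Each representative comes from an earlier one and one of the first `n` generators. -/
def treeOK (n : ℕ) (R : List P) (T : List (ℕ × ℕ)) : Bool :=
  decide (R.length = T.length + 1) && decide (R.getD 0 pone = pone) &&
    (List.range T.length).all fun j =>
      decide ((T.getD j (0, 0)).1 ≤ j) && decide ((T.getD j (0, 0)).2 < n) &&
        decide (R.getD (j + 1) pone = pmul (R.getD (T.getD j (0, 0)).1 pone) (gens.getD (T.getD j (0, 0)).2 pone))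

/-- The products of representatives by generators are in normal form. -/
def idsOK (n : ℕ) (low : List (List P)) (R : List P) (I : List (List ℕ)) : Bool :=
  (List.range R.length).all fun j => (List.range n).all fun s =>
    decide ((I.getD (n * j + s) []).getD low.length 0 < R.length) &&
      decide (pmul (R.getD j pone) (gens.getD s pone) =
        pmul (value low (I.getD (n * j + s) [])) (R.getD ((I.getD (n * j + s) []).getD low.length 0) pone))

/-- The monoid generated by the first `n` generators. -/
def gen (n : ℕ) : Submonoid V := Submonoid.closure {x | ∃ s < n, x = dec (gens.getD s pone)}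

theorem gen_mono {m n : ℕ} (h : m ≤ n) : gen m ≤ gen n :=
  Submonoid.closure_mono fun _ ⟨s, hs, e⟩ => ⟨s, hs.trans_le h, e⟩

theorem mem_of_tree {n : ℕ} {R : List P} {T : List (ℕ × ℕ)} (h : treeOK n R T = true) :
    ∀ d, dec (R.getD d pone) ∈ gen n := by
  simp only [treeOK, Bool.and_eq_true, decide_eq_true_eq, List.all_eq_true, List.mem_range] at h
  obtain ⟨⟨hlen, h0⟩, hT⟩ := h
  intro d
  induction d using Nat.strong_induction_on with
  | _ d ih =>
    by_cases hd : d < R.length
    · rcases d with _ | j
      · rw [h0, dec_pone]; exact one_mem _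
      · obtain ⟨⟨hp, hs⟩, he⟩ := hT j (by omega)
        rw [he, dec_pmul]
        exact mul_mem (ih _ (by omega)) (Submonoid.subset_closure ⟨_, hs, rfl⟩)
    · rw [List.getD_eq_default _ _ (not_lt.1 hd), dec_pone]; exact one_mem _

theorem value_mem {S : Submonoid V} : ∀ (Rs : List (List P)),
    (∀ R ∈ Rs, ∀ d, dec (R.getD d pone) ∈ S) → ∀ ds, dec (value Rs ds) ∈ S
  | [], _, ds => by simp only [value]; rw [dec_pone]; exact one_mem _
  | R :: Rs, h, [] => by simp only [value]; rw [dec_pone]; exact one_mem _
  | R :: Rs, h, d :: ds => by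
    simp only [value]
    rw [dec_pmul]
    exact mul_mem (h R List.mem_cons_self d)
      (value_mem Rs (fun R' hR' => h R' (List.mem_cons_of_mem _ hR')) ds)

theorem card_gen_le {m n : ℕ} {low : List (List P)} {R : List P} {T : List (ℕ × ℕ)} {I : List (List ℕ)}
    (hlow : ∀ L ∈ low, ∀ d, dec (L.getD d pone) ∈ gen m) (ht : treeOK n R T = true)
    (hi : idsOK n low R I = true) : Nat.card (gen n) ≤ Nat.card (gen m) * R.length := by
  classical
  have hlen : 0 < R.length := by
    simp only [treeOK, Bool.and_eq_true, decide_eq_true_eq] at ht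
    omega
  have h0 : R.getD 0 pone = pone := by
    simp only [treeOK, Bool.and_eq_true, decide_eq_true_eq] at ht
    exact ht.1.2
  simp only [idsOK, List.all_eq_true, List.mem_range, Bool.and_eq_true, decide_eq_true_eq] at hi
  have key : ∀ y ∈ gen n, ∀ (x : gen m) (j : Fin R.length),
      ∃ (x' : gen m) (j' : Fin R.length),
        (x : V) * dec (R.getD j pone) * y = (x' : V) * dec (R.getD j' pone) := by
    intro y hy
    induction hy using Submonoid.closure_induction with
    | mem y hy =>
      obtain ⟨s, hs, rfl⟩ := hy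
      intro x j
      obtain ⟨h1, h2⟩ := hi j j.2 s hs
      refine ⟨x * ⟨_, value_mem low hlow (I.getD (n * j.val + s) [])⟩, ⟨_, h1⟩, ?_⟩
      rw [mul_assoc, ← dec_pmul, h2, dec_pmul, ← mul_assoc]
      rfl
    | one => exact fun x j => ⟨x, j, by rw [mul_one]⟩
    | mul y z _ _ hy hz =>
      intro x j
      obtain ⟨x', j', e⟩ := hy x j
      obtain ⟨x'', j'', e'⟩ := hz x' j'
      exact ⟨x'', j'', by rw [← mul_assoc, e, e']⟩
  choose f g hfg using fun y : gen n => key y y.2 1 ⟨0, hlen⟩
  have hinj : Function.Injective fun y : gen n => (f y, g y) := by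
    intro y z e
    have e1 := congrArg Prod.fst e
    have e2 := congrArg Prod.snd e
    apply Subtype.ext
    have hy := hfg y
    have hz := hfg z
    simp only [OneMemClass.coe_one, one_mul, h0, dec_pone] at hy hz e1 e2
    rw [hy, hz, e1, e2]
  refine (Nat.card_le_card_of_injective _ hinj).trans (le_of_eq ?_)
  rw [Nat.card_prod, Nat.card_fin]

theorem tree0_ok : treeOK 1 reps0 tree0 = true := by decide +kernel
theorem tree1_ok : treeOK 7 reps1 tree1 = true := by decide +kernel
theorem tree2_ok : treeOK 9 reps2 tree2 = true := by decide +kernel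
theorem tree3_ok : treeOK 10 reps3 tree3 = true := by decide +kernel
theorem tree4_ok : treeOK 11 reps4 tree4 = true := by decide +kernel
theorem ids0_ok : idsOK 1 [] reps0 ids0 = true := by decide +kernel
theorem ids1_ok : idsOK 7 [reps0] reps1 ids1 = true := by decide +kernel
theorem ids2_ok : idsOK 9 [reps0, reps1] reps2 ids2 = true := by decide +kernel
theorem ids3_ok : idsOK 10 [reps0, reps1, reps2] reps3 ids3 = true := by decide +kernel
theorem ids4_ok : idsOK 11 [reps0, reps1, reps2, reps3] reps4 ids4 = true := by decide +kernel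

/-- All levels. -/
def allReps : List (List P) := [reps0, reps1, reps2, reps3, reps4]

theorem allReps_mem : ∀ L ∈ allReps, ∀ d, dec (L.getD d pone) ∈ gen 11 := by
  intro L hL d
  simp only [allReps, List.mem_cons, List.not_mem_nil, or_false] at hL
  rcases hL with rfl | rfl | rfl | rfl | rfl
  · exact gen_mono (by norm_num) (mem_of_tree tree0_ok d)
  · exact gen_mono (by norm_num) (mem_of_tree tree1_ok d)
  · exact gen_mono (by norm_num) (mem_of_tree tree2_ok d)
  · exact gen_mono (by norm_num) (mem_of_tree tree3_ok d)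
  · exact mem_of_tree tree4_ok d

theorem card_gen : Nat.card (gen 11) ≤ 241920 := by
  have h0 : Nat.card (gen 0) = 1 := by
    have : gen 0 = ⊥ := by
      have he : {x : V | ∃ s < 0, x = dec (gens.getD s pone)} = ∅ :=
        Set.eq_empty_of_forall_notMem fun x ⟨s, hs, _⟩ => absurd hs (Nat.not_lt_zero s)
      rw [gen, he, Submonoid.closure_empty]
    rw [this]; simp
  have a0 := card_gen_le (m := 0) (by simp) tree0_ok ids0_ok
  have a1 := card_gen_le (m := 1) (by
    intro L hL; simp only [List.mem_cons, List.not_mem_nil, or_false] at hL; subst hL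
    exact mem_of_tree tree0_ok) tree1_ok ids1_ok
  have a2 := card_gen_le (m := 7) (by
    intro L hL d; simp only [List.mem_cons, List.not_mem_nil, or_false] at hL
    rcases hL with rfl | rfl
    · exact gen_mono (by norm_num) (mem_of_tree tree0_ok d)
    · exact mem_of_tree tree1_ok d) tree2_ok ids2_ok
  have a3 := card_gen_le (m := 9) (by
    intro L hL d; simp only [List.mem_cons, List.not_mem_nil, or_false] at hL
    rcases hL with rfl | rfl | rfl
    · exact gen_mono (by norm_num) (mem_of_tree tree0_ok d)
    · exact gen_mono (by norm_num) (mem_of_tree tree1_ok d)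
    · exact mem_of_tree tree2_ok d) tree3_ok ids3_ok
  have a4 := card_gen_le (m := 10) (by
    intro L hL d; simp only [List.mem_cons, List.not_mem_nil, or_false] at hL
    rcases hL with rfl | rfl | rfl | rfl
    · exact gen_mono (by norm_num) (mem_of_tree tree0_ok d)
    · exact gen_mono (by norm_num) (mem_of_tree tree1_ok d)
    · exact gen_mono (by norm_num) (mem_of_tree tree2_ok d)
    · exact mem_of_tree tree3_ok d) tree4_ok ids4_ok
  rw [h0, show reps0.length = 4 from rfl] at a0
  rw [show reps1.length = 64 from rfl] at a1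
  rw [show reps2.length = 9 from rfl] at a2
  rw [show reps3.length = 5 from rfl] at a3
  rw [show reps4.length = 21 from rfl] at a4
  omega

end Cfsg.Agent.L34Mult
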