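import Cfsg.Agent.Lib.L34Mult.Pack

/-!
Generators and transversals for the cover of `SL₃(4)` by a cyclic group of order 4.
-/

set_option autoImplicit false

namespace Cfsg.Agent.L34Mult

open Cfsg.Agent.SylL34 (F4)

/-- A field element. -/
abbrev o : F4 := ⟨false, false⟩

/-- A field element. -/
abbrev e : F4 := ⟨true, false⟩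

/-- A field element. -/
abbrev w : F4 := ⟨false, true⟩

/-- A field element. -/
abbrev v : F4 := ⟨true, true⟩

/-- The generators. -/
def gens : List P :=
  [(⟨⟨2, 0, 0, 0, 0, 0, 0, 0⟩, ⟨0, 2, 0, 0, 0, 0, 0, 0⟩, ⟨0, 0, 2, 0, 0, 0, 0, 0⟩, ⟨0, 0, 0, 2, 0, 0, 0, 0⟩, ⟨0, 0, 0, 0, 2, 0, 0, 0⟩, ⟨0, 0, 0, 0, 0, 2, 0, 0⟩, ⟨0, 0, 0, 0, 0, 0, 2, 0⟩, ⟨0, 0, 0, 0, 0, 0, 0, 2⟩⟩, ⟨e, o, o, o, e, o, o, o, e⟩),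
   (⟨⟨0, 0, 0, 0, 1, 0, 0, 0⟩, ⟨0, 0, 0, 0, 0, 1, 0, 0⟩, ⟨0, 0, 0, 0, 0, 0, 1, 0⟩, ⟨0, 0, 0, 0, 0, 0, 0, 1⟩, ⟨1, 0, 0, 0, 0, 0, 0, 0⟩, ⟨0, 1, 0, 0, 0, 0, 0, 0⟩, ⟨0, 0, 1, 0, 0, 0, 0, 0⟩, ⟨0, 0, 0, 1, 0, 0, 0, 0⟩⟩, ⟨e, e, o, o, e, o, o, o, e⟩),
   (⟨⟨1, 0, 0, 0, 0, 0, 0, 0⟩, ⟨0, 1, 0, 0, 0, 0, 0, 0⟩, ⟨0, 0, 1, 0, 0, 0, 0, 0⟩, ⟨0, 0, 0, 1, 0, 0, 0, 0⟩, ⟨0, 0, 0, 0, 4, 0, 0, 0⟩, ⟨0, 0, 0, 0, 0, 4, 0, 0⟩, ⟨0, 0, 0, 0, 0, 0, 4, 0⟩, ⟨0, 0, 0, 0, 0, 0, 0, 4⟩⟩, ⟨e, o, e, o, e, o, o, o, e⟩),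
   (⟨⟨0, 0, 1, 0, 0, 0, 0, 0⟩, ⟨0, 0, 0, 1, 0, 0, 0, 0⟩, ⟨1, 0, 0, 0, 0, 0, 0, 0⟩, ⟨0, 1, 0, 0, 0, 0, 0, 0⟩, ⟨0, 0, 0, 0, 0, 0, 1, 0⟩, ⟨0, 0, 0, 0, 0, 0, 0, 1⟩, ⟨0, 0, 0, 0, 1, 0, 0, 0⟩, ⟨0, 0, 0, 0, 0, 1, 0, 0⟩⟩, ⟨e, w, o, o, e, o, o, o, e⟩),
   (⟨⟨1, 0, 0, 0, 0, 0, 0, 0⟩, ⟨0, 1, 0, 0, 0, 0, 0, 0⟩, ⟨0, 0, 4, 0, 0, 0, 0, 0⟩, ⟨0, 0, 0, 4, 0, 0, 0, 0⟩, ⟨0, 0, 0, 0, 1, 0, 0, 0⟩, ⟨0, 0, 0, 0, 0, 1, 0, 0⟩, ⟨0, 0, 0, 0, 0, 0, 4, 0⟩, ⟨0, 0, 0, 0, 0, 0, 0, 4⟩⟩, ⟨e, o, w, o, e, o, o, o, e⟩),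
   (⟨⟨0, 0, 0, 0, 0, 0, 0, 4⟩, ⟨0, 0, 0, 0, 0, 0, 1, 0⟩, ⟨0, 0, 0, 0, 0, 3, 0, 0⟩, ⟨0, 0, 0, 0, 2, 0, 0, 0⟩, ⟨0, 0, 0, 3, 0, 0, 0, 0⟩, ⟨0, 0, 2, 0, 0, 0, 0, 0⟩, ⟨0, 1, 0, 0, 0, 0, 0, 0⟩, ⟨4, 0, 0, 0, 0, 0, 0, 0⟩⟩, ⟨e, o, o, o, e, e, o, o, e⟩),
   (⟨⟨0, 0, 0, 0, 2, 0, 0, 0⟩, ⟨0, 0, 0, 0, 0, 3, 0, 0⟩, ⟨0, 0, 0, 0, 0, 0, 1, 0⟩, ⟨0, 0, 0, 0, 0, 0, 0, 4⟩, ⟨3, 0, 0, 0, 0, 0, 0, 0⟩, ⟨0, 2, 0, 0, 0, 0, 0, 0⟩, ⟨0, 0, 1, 0, 0, 0, 0, 0⟩, ⟨0, 0, 0, 4, 0, 0, 0, 0⟩⟩, ⟨e, o, o, o, e, w, o, o, e⟩),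
   (⟨⟨0, 0, 0, 0, 1, 1, 0, 0⟩, ⟨0, 0, 0, 0, 2, 3, 0, 0⟩, ⟨0, 0, 1, 1, 0, 0, 0, 0⟩, ⟨0, 0, 2, 3, 0, 0, 0, 0⟩, ⟨0, 0, 0, 0, 0, 0, 1, 1⟩, ⟨0, 0, 0, 0, 0, 0, 2, 3⟩, ⟨1, 1, 0, 0, 0, 0, 0, 0⟩, ⟨2, 3, 0, 0, 0, 0, 0, 0⟩⟩, ⟨e, o, o, o, w, o, o, o, v⟩),
   (⟨⟨1, 0, 0, 0, 0, 0, 0, 0⟩, ⟨0, 1, 0, 0, 0, 0, 0, 0⟩, ⟨0, 0, 1, 0, 0, 0, 0, 0⟩, ⟨0, 0, 0, 1, 0, 0, 0, 0⟩, ⟨0, 0, 0, 0, 1, 0, 0, 0⟩, ⟨0, 0, 0, 0, 0, 1, 0, 0⟩, ⟨0, 0, 0, 0, 0, 0, 1, 0⟩, ⟨0, 0, 0, 0, 0, 0, 0, 1⟩⟩, ⟨w, o, o, o, w, o, o, o, w⟩),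
   (⟨⟨2, 0, 3, 0, 2, 0, 3, 0⟩, ⟨4, 3, 1, 2, 4, 3, 1, 2⟩, ⟨3, 0, 3, 0, 3, 0, 3, 0⟩, ⟨1, 2, 1, 2, 1, 2, 1, 2⟩, ⟨2, 0, 3, 0, 3, 0, 2, 0⟩, ⟨4, 3, 1, 2, 1, 2, 4, 3⟩, ⟨3, 0, 3, 0, 2, 0, 2, 0⟩, ⟨1, 2, 1, 2, 4, 3, 4, 3⟩⟩, ⟨e, o, o, o, o, e, o, e, o⟩),
   (⟨⟨4, 1, 4, 1, 2, 2, 1, 1⟩, ⟨3, 1, 4, 2, 4, 2, 1, 2⟩, ⟨2, 4, 4, 2, 4, 2, 4, 3⟩, ⟨1, 4, 4, 1, 2, 2, 4, 4⟩, ⟨3, 2, 2, 3, 4, 4, 3, 3⟩, ⟨4, 3, 3, 4, 2, 1, 2, 4⟩, ⟨3, 1, 4, 2, 1, 3, 4, 3⟩, ⟨1, 4, 1, 4, 2, 2, 1, 1⟩⟩, ⟨o, e, o, e, o, o, o, o, e⟩)]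

/-- A transversal. -/
def reps0 : List P :=
  [(⟨⟨1, 0, 0, 0, 0, 0, 0, 0⟩, ⟨0, 1, 0, 0, 0, 0, 0, 0⟩, ⟨0, 0, 1, 0, 0, 0, 0, 0⟩, ⟨0, 0, 0, 1, 0, 0, 0, 0⟩, ⟨0, 0, 0, 0, 1, 0, 0, 0⟩, ⟨0, 0, 0, 0, 0, 1, 0, 0⟩, ⟨0, 0, 0, 0, 0, 0, 1, 0⟩, ⟨0, 0, 0, 0, 0, 0, 0, 1⟩⟩, ⟨e, o, o, o, e, o, o, o, e⟩),
   (⟨⟨2, 0, 0, 0, 0, 0, 0, 0⟩, ⟨0, 2, 0, 0, 0, 0, 0, 0⟩, ⟨0, 0, 2, 0, 0, 0, 0, 0⟩, ⟨0, 0, 0, 2, 0, 0, 0, 0⟩, ⟨0, 0, 0, 0, 2, 0, 0, 0⟩, ⟨0, 0, 0, 0, 0, 2, 0, 0⟩, ⟨0, 0, 0, 0, 0, 0, 2, 0⟩, ⟨0, 0, 0, 0, 0, 0, 0, 2⟩⟩, ⟨e, o, o, o, e, o, o, o, e⟩),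
   (⟨⟨4, 0, 0, 0, 0, 0, 0, 0⟩, ⟨0, 4, 0, 0, 0, 0, 0, 0⟩, ⟨0, 0, 4, 0, 0, 0, 0, 0⟩, ⟨0, 0, 0, 4, 0, 0, 0, 0⟩, ⟨0, 0, 0, 0, 4, 0, 0, 0⟩, ⟨0, 0, 0, 0, 0, 4, 0, 0⟩, ⟨0, 0, 0, 0, 0, 0, 4, 0⟩, ⟨0, 0, 0, 0, 0, 0, 0, 4⟩⟩, ⟨e, o, o, o, e, o, o, o, e⟩),
   (⟨⟨3, 0, 0, 0, 0, 0, 0, 0⟩, ⟨0, 3, 0, 0, 0, 0, 0, 0⟩, ⟨0, 0, 3, 0, 0, 0, 0, 0⟩, ⟨0, 0, 0, 3, 0, 0, 0, 0⟩, ⟨0, 0, 0, 0, 3, 0, 0, 0⟩, ⟨0, 0, 0, 0, 0, 3, 0, 0⟩, ⟨0, 0, 0, 0, 0, 0, 3, 0⟩, ⟨0, 0, 0, 0, 0, 0, 0, 3⟩⟩, ⟨e, o, o, o, e, o, o, o, e⟩)]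

/-- The parent and the generator of each representative. -/
def tree0 : List (ℕ × ℕ) :=
  [(0, 0), (1, 0), (2, 0)]

/-- The products of the representatives by the generators, by digits. -/
def ids0 : List (List ℕ) :=
  [[1], [2], [3], [0]]

/-- A transversal. -/
def reps1 : List P :=
  [(⟨⟨1, 0, 0, 0, 0, 0, 0, 0⟩, ⟨0, 1, 0, 0, 0, 0, 0, 0⟩, ⟨0, 0, 1, 0, 0, 0, 0, 0⟩, ⟨0, 0, 0, 1, 0, 0, 0, 0⟩, ⟨0, 0, 0, 0, 1, 0, 0, 0⟩, ⟨0, 0, 0, 0, 0, 1, 0, 0⟩, ⟨0, 0, 0, 0, 0, 0, 1, 0⟩, ⟨0, 0, 0, 0, 0, 0, 0, 1⟩⟩, ⟨e, o, o, o, e, o, o, o, e⟩),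
   (⟨⟨0, 0, 0, 0, 1, 0, 0, 0⟩, ⟨0, 0, 0, 0, 0, 1, 0, 0⟩, ⟨0, 0, 0, 0, 0, 0, 1, 0⟩, ⟨0, 0, 0, 0, 0, 0, 0, 1⟩, ⟨1, 0, 0, 0, 0, 0, 0, 0⟩, ⟨0, 1, 0, 0, 0, 0, 0, 0⟩, ⟨0, 0, 1, 0, 0, 0, 0, 0⟩, ⟨0, 0, 0, 1, 0, 0, 0, 0⟩⟩, ⟨e, e, o, o, e, o, o, o, e⟩),
   (⟨⟨1, 0, 0, 0, 0, 0, 0, 0⟩, ⟨0, 1, 0, 0, 0, 0, 0, 0⟩, ⟨0, 0, 1, 0, 0, 0, 0, 0⟩, ⟨0, 0, 0, 1, 0, 0, 0, 0⟩, ⟨0, 0, 0, 0, 4, 0, 0, 0⟩, ⟨0, 0, 0, 0, 0, 4, 0, 0⟩, ⟨0, 0, 0, 0, 0, 0, 4, 0⟩, ⟨0, 0, 0, 0, 0, 0, 0, 4⟩⟩, ⟨e, o, e, o, e, o, o, o, e⟩),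
   (⟨⟨0, 0, 1, 0, 0, 0, 0, 0⟩, ⟨0, 0, 0, 1, 0, 0, 0, 0⟩, ⟨1, 0, 0, 0, 0, 0, 0, 0⟩, ⟨0, 1, 0, 0, 0, 0, 0, 0⟩, ⟨0, 0, 0, 0, 0, 0, 1, 0⟩, ⟨0, 0, 0, 0, 0, 0, 0, 1⟩, ⟨0, 0, 0, 0, 1, 0, 0, 0⟩, ⟨0, 0, 0, 0, 0, 1, 0, 0⟩⟩, ⟨e, w, o, o, e, o, o, o, e⟩),
   (⟨⟨1, 0, 0, 0, 0, 0, 0, 0⟩, ⟨0, 1, 0, 0, 0, 0, 0, 0⟩, ⟨0, 0, 4, 0, 0, 0, 0, 0⟩, ⟨0, 0, 0, 4, 0, 0, 0, 0⟩, ⟨0, 0, 0, 0, 1, 0, 0, 0⟩, ⟨0, 0, 0, 0, 0, 1, 0, 0⟩, ⟨0, 0, 0, 0, 0, 0, 4, 0⟩, ⟨0, 0, 0, 0, 0, 0, 0, 4⟩⟩, ⟨e, o, w, o, e, o, o, o, e⟩),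
   (⟨⟨0, 0, 0, 0, 0, 0, 0, 4⟩, ⟨0, 0, 0, 0, 0, 0, 1, 0⟩, ⟨0, 0, 0, 0, 0, 3, 0, 0⟩, ⟨0, 0, 0, 0, 2, 0, 0, 0⟩, ⟨0, 0, 0, 3, 0, 0, 0, 0⟩, ⟨0, 0, 2, 0, 0, 0, 0, 0⟩, ⟨0, 1, 0, 0, 0, 0, 0, 0⟩, ⟨4, 0, 0, 0, 0, 0, 0, 0⟩⟩, ⟨e, o, o, o, e, e, o, o, e⟩),
   (⟨⟨0, 0, 0, 0, 2, 0, 0, 0⟩, ⟨0, 0, 0, 0, 0, 3, 0, 0⟩, ⟨0, 0, 0, 0, 0, 0, 1, 0⟩, ⟨0, 0, 0, 0, 0, 0, 0, 4⟩, ⟨3, 0, 0, 0, 0, 0, 0, 0⟩, ⟨0, 2, 0, 0, 0, 0, 0, 0⟩, ⟨0, 0, 1, 0, 0, 0, 0, 0⟩, ⟨0, 0, 0, 4, 0, 0, 0, 0⟩⟩, ⟨e, o, o, o, e, w, o, o, e⟩),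
   (⟨⟨0, 0, 0, 0, 4, 0, 0, 0⟩, ⟨0, 0, 0, 0, 0, 4, 0, 0⟩, ⟨0, 0, 0, 0, 0, 0, 4, 0⟩, ⟨0, 0, 0, 0, 0, 0, 0, 4⟩, ⟨1, 0, 0, 0, 0, 0, 0, 0⟩, ⟨0, 1, 0, 0, 0, 0, 0, 0⟩, ⟨0, 0, 1, 0, 0, 0, 0, 0⟩, ⟨0, 0, 0, 1, 0, 0, 0, 0⟩⟩, ⟨e, e, e, o, e, o, o, o, e⟩),
   (⟨⟨0, 0, 0, 0, 0, 0, 1, 0⟩, ⟨0, 0, 0, 0, 0, 0, 0, 1⟩, ⟨0, 0, 0, 0, 1, 0, 0, 0⟩, ⟨0, 0, 0, 0, 0, 1, 0, 0⟩, ⟨0, 0, 1, 0, 0, 0, 0, 0⟩, ⟨0, 0, 0, 1, 0, 0, 0, 0⟩, ⟨1, 0, 0, 0, 0, 0, 0, 0⟩, ⟨0, 1, 0, 0, 0, 0, 0, 0⟩⟩, ⟨e, v, o, o, e, o, o, o, e⟩),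
   (⟨⟨0, 0, 0, 0, 1, 0, 0, 0⟩, ⟨0, 0, 0, 0, 0, 1, 0, 0⟩, ⟨0, 0, 0, 0, 0, 0, 4, 0⟩, ⟨0, 0, 0, 0, 0, 0, 0, 4⟩, ⟨1, 0, 0, 0, 0, 0, 0, 0⟩, ⟨0, 1, 0, 0, 0, 0, 0, 0⟩, ⟨0, 0, 4, 0, 0, 0, 0, 0⟩, ⟨0, 0, 0, 4, 0, 0, 0, 0⟩⟩, ⟨e, e, w, o, e, o, o, o, e⟩),
   (⟨⟨0, 0, 0, 3, 0, 0, 0, 0⟩, ⟨0, 0, 2, 0, 0, 0, 0, 0⟩, ⟨0, 1, 0, 0, 0, 0, 0, 0⟩, ⟨4, 0, 0, 0, 0, 0, 0, 0⟩, ⟨0, 0, 0, 0, 0, 0, 0, 4⟩, ⟨0, 0, 0, 0, 0, 0, 1, 0⟩, ⟨0, 0, 0, 0, 0, 3, 0, 0⟩, ⟨0, 0, 0, 0, 2, 0, 0, 0⟩⟩, ⟨e, e, e, o, e, e, o, o, e⟩),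
   (⟨⟨3, 0, 0, 0, 0, 0, 0, 0⟩, ⟨0, 2, 0, 0, 0, 0, 0, 0⟩, ⟨0, 0, 1, 0, 0, 0, 0, 0⟩, ⟨0, 0, 0, 4, 0, 0, 0, 0⟩, ⟨0, 0, 0, 0, 2, 0, 0, 0⟩, ⟨0, 0, 0, 0, 0, 3, 0, 0⟩, ⟨0, 0, 0, 0, 0, 0, 1, 0⟩, ⟨0, 0, 0, 0, 0, 0, 0, 4⟩⟩, ⟨e, e, w, o, e, w, o, o, e⟩),
   (⟨⟨0, 0, 1, 0, 0, 0, 0, 0⟩, ⟨0, 0, 0, 1, 0, 0, 0, 0⟩, ⟨1, 0, 0, 0, 0, 0, 0, 0⟩, ⟨0, 1, 0, 0, 0, 0, 0, 0⟩, ⟨0, 0, 0, 0, 0, 0, 4, 0⟩, ⟨0, 0, 0, 0, 0, 0, 0, 4⟩, ⟨0, 0, 0, 0, 4, 0, 0, 0⟩, ⟨0, 0, 0, 0, 0, 4, 0, 0⟩⟩, ⟨e, w, e, o, e, o, o, o, e⟩),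
   (⟨⟨1, 0, 0, 0, 0, 0, 0, 0⟩, ⟨0, 1, 0, 0, 0, 0, 0, 0⟩, ⟨0, 0, 4, 0, 0, 0, 0, 0⟩, ⟨0, 0, 0, 4, 0, 0, 0, 0⟩, ⟨0, 0, 0, 0, 4, 0, 0, 0⟩, ⟨0, 0, 0, 0, 0, 4, 0, 0⟩, ⟨0, 0, 0, 0, 0, 0, 1, 0⟩, ⟨0, 0, 0, 0, 0, 0, 0, 1⟩⟩, ⟨e, o, v, o, e, o, o, o, e⟩),
   (⟨⟨0, 0, 0, 0, 0, 0, 0, 4⟩, ⟨0, 0, 0, 0, 0, 0, 1, 0⟩, ⟨0, 0, 0, 0, 0, 3, 0, 0⟩, ⟨0, 0, 0, 0, 2, 0, 0, 0⟩, ⟨0, 0, 0, 2, 0, 0, 0, 0⟩, ⟨0, 0, 3, 0, 0, 0, 0, 0⟩, ⟨0, 4, 0, 0, 0, 0, 0, 0⟩, ⟨1, 0, 0, 0, 0, 0, 0, 0⟩⟩, ⟨e, o, e, o, e, e, o, o, e⟩),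
   (⟨⟨0, 0, 0, 0, 2, 0, 0, 0⟩, ⟨0, 0, 0, 0, 0, 3, 0, 0⟩, ⟨0, 0, 0, 0, 0, 0, 1, 0⟩, ⟨0, 0, 0, 0, 0, 0, 0, 4⟩, ⟨2, 0, 0, 0, 0, 0, 0, 0⟩, ⟨0, 3, 0, 0, 0, 0, 0, 0⟩, ⟨0, 0, 4, 0, 0, 0, 0, 0⟩, ⟨0, 0, 0, 1, 0, 0, 0, 0⟩⟩, ⟨e, o, e, o, e, w, o, o, e⟩),
   (⟨⟨0, 0, 4, 0, 0, 0, 0, 0⟩, ⟨0, 0, 0, 4, 0, 0, 0, 0⟩, ⟨1, 0, 0, 0, 0, 0, 0, 0⟩, ⟨0, 1, 0, 0, 0, 0, 0, 0⟩, ⟨0, 0, 0, 0, 0, 0, 4, 0⟩, ⟨0, 0, 0, 0, 0, 0, 0, 4⟩, ⟨0, 0, 0, 0, 1, 0, 0, 0⟩, ⟨0, 0, 0, 0, 0, 1, 0, 0⟩⟩, ⟨e, w, w, o, e, o, o, o, e⟩),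
   (⟨⟨0, 0, 0, 0, 0, 3, 0, 0⟩, ⟨0, 0, 0, 0, 2, 0, 0, 0⟩, ⟨0, 0, 0, 0, 0, 0, 0, 4⟩, ⟨0, 0, 0, 0, 0, 0, 1, 0⟩, ⟨0, 1, 0, 0, 0, 0, 0, 0⟩, ⟨4, 0, 0, 0, 0, 0, 0, 0⟩, ⟨0, 0, 0, 3, 0, 0, 0, 0⟩, ⟨0, 0, 2, 0, 0, 0, 0, 0⟩⟩, ⟨e, w, w, o, e, e, o, o, e⟩),
   (⟨⟨0, 0, 0, 0, 0, 0, 1, 0⟩, ⟨0, 0, 0, 0, 0, 0, 0, 4⟩, ⟨0, 0, 0, 0, 2, 0, 0, 0⟩, ⟨0, 0, 0, 0, 0, 3, 0, 0⟩, ⟨0, 0, 1, 0, 0, 0, 0, 0⟩, ⟨0, 0, 0, 4, 0, 0, 0, 0⟩, ⟨3, 0, 0, 0, 0, 0, 0, 0⟩, ⟨0, 2, 0, 0, 0, 0, 0, 0⟩⟩, ⟨e, w, v, o, e, w, o, o, e⟩),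
   (⟨⟨0, 0, 0, 0, 0, 0, 0, 4⟩, ⟨0, 0, 0, 0, 0, 0, 1, 0⟩, ⟨0, 0, 0, 0, 0, 2, 0, 0⟩, ⟨0, 0, 0, 0, 3, 0, 0, 0⟩, ⟨0, 0, 0, 3, 0, 0, 0, 0⟩, ⟨0, 0, 2, 0, 0, 0, 0, 0⟩, ⟨0, 4, 0, 0, 0, 0, 0, 0⟩, ⟨1, 0, 0, 0, 0, 0, 0, 0⟩⟩, ⟨e, o, w, o, e, e, o, o, e⟩),
   (⟨⟨0, 0, 0, 0, 2, 0, 0, 0⟩, ⟨0, 0, 0, 0, 0, 3, 0, 0⟩, ⟨0, 0, 0, 0, 0, 0, 4, 0⟩, ⟨0, 0, 0, 0, 0, 0, 0, 1⟩, ⟨3, 0, 0, 0, 0, 0, 0, 0⟩, ⟨0, 2, 0, 0, 0, 0, 0, 0⟩, ⟨0, 0, 4, 0, 0, 0, 0, 0⟩, ⟨0, 0, 0, 1, 0, 0, 0, 0⟩⟩, ⟨e, o, w, o, e, w, o, o, e⟩),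
   (⟨⟨0, 0, 0, 4, 0, 0, 0, 0⟩, ⟨0, 0, 1, 0, 0, 0, 0, 0⟩, ⟨0, 3, 0, 0, 0, 0, 0, 0⟩, ⟨2, 0, 0, 0, 0, 0, 0, 0⟩, ⟨0, 0, 0, 0, 0, 0, 0, 3⟩, ⟨0, 0, 0, 0, 0, 0, 2, 0⟩, ⟨0, 0, 0, 0, 0, 1, 0, 0⟩, ⟨0, 0, 0, 0, 4, 0, 0, 0⟩⟩, ⟨e, e, o, o, e, e, o, o, e⟩),
   (⟨⟨0, 0, 0, 0, 0, 4, 0, 0⟩, ⟨0, 0, 0, 0, 1, 0, 0, 0⟩, ⟨0, 0, 0, 0, 0, 0, 0, 3⟩, ⟨0, 0, 0, 0, 0, 0, 2, 0⟩, ⟨0, 3, 0, 0, 0, 0, 0, 0⟩, ⟨2, 0, 0, 0, 0, 0, 0, 0⟩, ⟨0, 0, 0, 1, 0, 0, 0, 0⟩, ⟨0, 0, 4, 0, 0, 0, 0, 0⟩⟩, ⟨e, w, o, o, e, e, o, o, e⟩),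
   (⟨⟨0, 0, 0, 1, 0, 0, 0, 0⟩, ⟨0, 0, 1, 0, 0, 0, 0, 0⟩, ⟨0, 1, 0, 0, 0, 0, 0, 0⟩, ⟨1, 0, 0, 0, 0, 0, 0, 0⟩, ⟨0, 0, 0, 0, 0, 0, 0, 2⟩, ⟨0, 0, 0, 0, 0, 0, 2, 0⟩, ⟨0, 0, 0, 0, 0, 3, 0, 0⟩, ⟨0, 0, 0, 0, 3, 0, 0, 0⟩⟩, ⟨e, o, o, o, e, v, o, o, e⟩),
   (⟨⟨2, 0, 0, 0, 0, 0, 0, 0⟩, ⟨0, 3, 0, 0, 0, 0, 0, 0⟩, ⟨0, 0, 1, 0, 0, 0, 0, 0⟩, ⟨0, 0, 0, 4, 0, 0, 0, 0⟩, ⟨0, 0, 0, 0, 3, 0, 0, 0⟩, ⟨0, 0, 0, 0, 0, 2, 0, 0⟩, ⟨0, 0, 0, 0, 0, 0, 1, 0⟩, ⟨0, 0, 0, 0, 0, 0, 0, 4⟩⟩, ⟨e, e, o, o, e, w, o, o, e⟩),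
   (⟨⟨0, 0, 0, 0, 0, 0, 2, 0⟩, ⟨0, 0, 0, 0, 0, 0, 0, 3⟩, ⟨0, 0, 0, 0, 1, 0, 0, 0⟩, ⟨0, 0, 0, 0, 0, 4, 0, 0⟩, ⟨0, 0, 3, 0, 0, 0, 0, 0⟩, ⟨0, 0, 0, 2, 0, 0, 0, 0⟩, ⟨1, 0, 0, 0, 0, 0, 0, 0⟩, ⟨0, 4, 0, 0, 0, 0, 0, 0⟩⟩, ⟨e, w, o, o, e, w, o, o, e⟩),
   (⟨⟨0, 0, 0, 0, 0, 0, 4, 0⟩, ⟨0, 0, 0, 0, 0, 0, 0, 4⟩, ⟨0, 0, 0, 0, 4, 0, 0, 0⟩, ⟨0, 0, 0, 0, 0, 4, 0, 0⟩, ⟨0, 0, 1, 0, 0, 0, 0, 0⟩, ⟨0, 0, 0, 1, 0, 0, 0, 0⟩, ⟨1, 0, 0, 0, 0, 0, 0, 0⟩, ⟨0, 1, 0, 0, 0, 0, 0, 0⟩⟩, ⟨e, v, e, o, e, o, o, o, e⟩),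
   (⟨⟨0, 0, 0, 0, 4, 0, 0, 0⟩, ⟨0, 0, 0, 0, 0, 4, 0, 0⟩, ⟨0, 0, 0, 0, 0, 0, 1, 0⟩, ⟨0, 0, 0, 0, 0, 0, 0, 1⟩, ⟨1, 0, 0, 0, 0, 0, 0, 0⟩, ⟨0, 1, 0, 0, 0, 0, 0, 0⟩, ⟨0, 0, 4, 0, 0, 0, 0, 0⟩, ⟨0, 0, 0, 4, 0, 0, 0, 0⟩⟩, ⟨e, e, v, o, e, o, o, o, e⟩),
   (⟨⟨2, 0, 0, 0, 0, 0, 0, 0⟩, ⟨0, 3, 0, 0, 0, 0, 0, 0⟩, ⟨0, 0, 4, 0, 0, 0, 0, 0⟩, ⟨0, 0, 0, 1, 0, 0, 0, 0⟩, ⟨0, 0, 0, 0, 2, 0, 0, 0⟩, ⟨0, 0, 0, 0, 0, 3, 0, 0⟩, ⟨0, 0, 0, 0, 0, 0, 1, 0⟩, ⟨0, 0, 0, 0, 0, 0, 0, 4⟩⟩, ⟨e, e, v, o, e, w, o, o, e⟩),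
   (⟨⟨0, 0, 0, 0, 0, 0, 4, 0⟩, ⟨0, 0, 0, 0, 0, 0, 0, 4⟩, ⟨0, 0, 0, 0, 1, 0, 0, 0⟩, ⟨0, 0, 0, 0, 0, 1, 0, 0⟩, ⟨0, 0, 4, 0, 0, 0, 0, 0⟩, ⟨0, 0, 0, 4, 0, 0, 0, 0⟩, ⟨1, 0, 0, 0, 0, 0, 0, 0⟩, ⟨0, 1, 0, 0, 0, 0, 0, 0⟩⟩, ⟨e, v, w, o, e, o, o, o, e⟩),
   (⟨⟨0, 1, 0, 0, 0, 0, 0, 0⟩, ⟨4, 0, 0, 0, 0, 0, 0, 0⟩, ⟨0, 0, 0, 3, 0, 0, 0, 0⟩, ⟨0, 0, 2, 0, 0, 0, 0, 0⟩, ⟨0, 0, 0, 0, 0, 3, 0, 0⟩, ⟨0, 0, 0, 0, 2, 0, 0, 0⟩, ⟨0, 0, 0, 0, 0, 0, 0, 4⟩, ⟨0, 0, 0, 0, 0, 0, 1, 0⟩⟩, ⟨e, v, v, o, e, e, o, o, e⟩),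
   (⟨⟨0, 0, 1, 0, 0, 0, 0, 0⟩, ⟨0, 0, 0, 4, 0, 0, 0, 0⟩, ⟨3, 0, 0, 0, 0, 0, 0, 0⟩, ⟨0, 2, 0, 0, 0, 0, 0, 0⟩, ⟨0, 0, 0, 0, 0, 0, 1, 0⟩, ⟨0, 0, 0, 0, 0, 0, 0, 4⟩, ⟨0, 0, 0, 0, 2, 0, 0, 0⟩, ⟨0, 0, 0, 0, 0, 3, 0, 0⟩⟩, ⟨e, v, e, o, e, w, o, o, e⟩),
   (⟨⟨0, 0, 0, 3, 0, 0, 0, 0⟩, ⟨0, 0, 2, 0, 0, 0, 0, 0⟩, ⟨0, 4, 0, 0, 0, 0, 0, 0⟩, ⟨1, 0, 0, 0, 0, 0, 0, 0⟩, ⟨0, 0, 0, 0, 0, 0, 0, 4⟩, ⟨0, 0, 0, 0, 0, 0, 1, 0⟩, ⟨0, 0, 0, 0, 0, 2, 0, 0⟩, ⟨0, 0, 0, 0, 3, 0, 0, 0⟩⟩, ⟨e, e, v, o, e, e, o, o, e⟩),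
   (⟨⟨0, 3, 0, 0, 0, 0, 0, 0⟩, ⟨2, 0, 0, 0, 0, 0, 0, 0⟩, ⟨0, 0, 0, 1, 0, 0, 0, 0⟩, ⟨0, 0, 4, 0, 0, 0, 0, 0⟩, ⟨0, 0, 0, 0, 0, 4, 0, 0⟩, ⟨0, 0, 0, 0, 1, 0, 0, 0⟩, ⟨0, 0, 0, 0, 0, 0, 0, 3⟩, ⟨0, 0, 0, 0, 0, 0, 2, 0⟩⟩, ⟨e, v, e, o, e, e, o, o, e⟩),
   (⟨⟨0, 0, 0, 0, 0, 0, 0, 2⟩, ⟨0, 0, 0, 0, 0, 0, 2, 0⟩, ⟨0, 0, 0, 0, 0, 3, 0, 0⟩, ⟨0, 0, 0, 0, 3, 0, 0, 0⟩, ⟨0, 0, 0, 1, 0, 0, 0, 0⟩, ⟨0, 0, 1, 0, 0, 0, 0, 0⟩, ⟨0, 1, 0, 0, 0, 0, 0, 0⟩, ⟨1, 0, 0, 0, 0, 0, 0, 0⟩⟩, ⟨e, e, v, o, e, v, o, o, e⟩),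
   (⟨⟨0, 0, 3, 0, 0, 0, 0, 0⟩, ⟨0, 0, 0, 2, 0, 0, 0, 0⟩, ⟨1, 0, 0, 0, 0, 0, 0, 0⟩, ⟨0, 4, 0, 0, 0, 0, 0, 0⟩, ⟨0, 0, 0, 0, 0, 0, 2, 0⟩, ⟨0, 0, 0, 0, 0, 0, 0, 3⟩, ⟨0, 0, 0, 0, 1, 0, 0, 0⟩, ⟨0, 0, 0, 0, 0, 4, 0, 0⟩⟩, ⟨e, v, w, o, e, w, o, o, e⟩),
   (⟨⟨0, 0, 4, 0, 0, 0, 0, 0⟩, ⟨0, 0, 0, 4, 0, 0, 0, 0⟩, ⟨1, 0, 0, 0, 0, 0, 0, 0⟩, ⟨0, 1, 0, 0, 0, 0, 0, 0⟩, ⟨0, 0, 0, 0, 0, 0, 1, 0⟩, ⟨0, 0, 0, 0, 0, 0, 0, 1⟩, ⟨0, 0, 0, 0, 4, 0, 0, 0⟩, ⟨0, 0, 0, 0, 0, 4, 0, 0⟩⟩, ⟨e, w, v, o, e, o, o, o, e⟩),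
   (⟨⟨0, 0, 0, 0, 0, 3, 0, 0⟩, ⟨0, 0, 0, 0, 2, 0, 0, 0⟩, ⟨0, 0, 0, 0, 0, 0, 0, 4⟩, ⟨0, 0, 0, 0, 0, 0, 1, 0⟩, ⟨0, 4, 0, 0, 0, 0, 0, 0⟩, ⟨1, 0, 0, 0, 0, 0, 0, 0⟩, ⟨0, 0, 0, 2, 0, 0, 0, 0⟩, ⟨0, 0, 3, 0, 0, 0, 0, 0⟩⟩, ⟨e, w, v, o, e, e, o, o, e⟩),
   (⟨⟨0, 0, 0, 0, 0, 0, 1, 0⟩, ⟨0, 0, 0, 0, 0, 0, 0, 4⟩, ⟨0, 0, 0, 0, 2, 0, 0, 0⟩, ⟨0, 0, 0, 0, 0, 3, 0, 0⟩, ⟨0, 0, 4, 0, 0, 0, 0, 0⟩, ⟨0, 0, 0, 1, 0, 0, 0, 0⟩, ⟨2, 0, 0, 0, 0, 0, 0, 0⟩, ⟨0, 3, 0, 0, 0, 0, 0, 0⟩⟩, ⟨e, w, w, o, e, w, o, o, e⟩),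
   (⟨⟨0, 0, 0, 0, 0, 0, 0, 4⟩, ⟨0, 0, 0, 0, 0, 0, 1, 0⟩, ⟨0, 0, 0, 0, 0, 2, 0, 0⟩, ⟨0, 0, 0, 0, 3, 0, 0, 0⟩, ⟨0, 0, 0, 2, 0, 0, 0, 0⟩, ⟨0, 0, 3, 0, 0, 0, 0, 0⟩, ⟨0, 1, 0, 0, 0, 0, 0, 0⟩, ⟨4, 0, 0, 0, 0, 0, 0, 0⟩⟩, ⟨e, o, v, o, e, e, o, o, e⟩),
   (⟨⟨0, 0, 0, 0, 2, 0, 0, 0⟩, ⟨0, 0, 0, 0, 0, 3, 0, 0⟩, ⟨0, 0, 0, 0, 0, 0, 4, 0⟩, ⟨0, 0, 0, 0, 0, 0, 0, 1⟩, ⟨2, 0, 0, 0, 0, 0, 0, 0⟩, ⟨0, 3, 0, 0, 0, 0, 0, 0⟩, ⟨0, 0, 1, 0, 0, 0, 0, 0⟩, ⟨0, 0, 0, 4, 0, 0, 0, 0⟩⟩, ⟨e, o, v, o, e, w, o, o, e⟩),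
   (⟨⟨0, 0, 0, 0, 0, 4, 0, 0⟩, ⟨0, 0, 0, 0, 1, 0, 0, 0⟩, ⟨0, 0, 0, 0, 0, 0, 0, 3⟩, ⟨0, 0, 0, 0, 0, 0, 2, 0⟩, ⟨0, 2, 0, 0, 0, 0, 0, 0⟩, ⟨3, 0, 0, 0, 0, 0, 0, 0⟩, ⟨0, 0, 0, 4, 0, 0, 0, 0⟩, ⟨0, 0, 1, 0, 0, 0, 0, 0⟩⟩, ⟨e, w, e, o, e, e, o, o, e⟩),
   (⟨⟨0, 0, 0, 1, 0, 0, 0, 0⟩, ⟨0, 0, 1, 0, 0, 0, 0, 0⟩, ⟨0, 1, 0, 0, 0, 0, 0, 0⟩, ⟨1, 0, 0, 0, 0, 0, 0, 0⟩, ⟨0, 0, 0, 0, 0, 0, 0, 3⟩, ⟨0, 0, 0, 0, 0, 0, 3, 0⟩, ⟨0, 0, 0, 0, 0, 2, 0, 0⟩, ⟨0, 0, 0, 0, 2, 0, 0, 0⟩⟩, ⟨e, o, e, o, e, v, o, o, e⟩),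
   (⟨⟨2, 0, 0, 0, 0, 0, 0, 0⟩, ⟨0, 3, 0, 0, 0, 0, 0, 0⟩, ⟨0, 0, 1, 0, 0, 0, 0, 0⟩, ⟨0, 0, 0, 4, 0, 0, 0, 0⟩, ⟨0, 0, 0, 0, 2, 0, 0, 0⟩, ⟨0, 0, 0, 0, 0, 3, 0, 0⟩, ⟨0, 0, 0, 0, 0, 0, 4, 0⟩, ⟨0, 0, 0, 0, 0, 0, 0, 1⟩⟩, ⟨e, e, e, o, e, w, o, o, e⟩),
   (⟨⟨0, 0, 0, 0, 0, 0, 2, 0⟩, ⟨0, 0, 0, 0, 0, 0, 0, 3⟩, ⟨0, 0, 0, 0, 1, 0, 0, 0⟩, ⟨0, 0, 0, 0, 0, 4, 0, 0⟩, ⟨0, 0, 2, 0, 0, 0, 0, 0⟩, ⟨0, 0, 0, 3, 0, 0, 0, 0⟩, ⟨4, 0, 0, 0, 0, 0, 0, 0⟩, ⟨0, 1, 0, 0, 0, 0, 0, 0⟩⟩, ⟨e, w, e, o, e, w, o, o, e⟩),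
   (⟨⟨0, 3, 0, 0, 0, 0, 0, 0⟩, ⟨2, 0, 0, 0, 0, 0, 0, 0⟩, ⟨0, 0, 0, 4, 0, 0, 0, 0⟩, ⟨0, 0, 1, 0, 0, 0, 0, 0⟩, ⟨0, 0, 0, 0, 0, 1, 0, 0⟩, ⟨0, 0, 0, 0, 4, 0, 0, 0⟩, ⟨0, 0, 0, 0, 0, 0, 0, 3⟩, ⟨0, 0, 0, 0, 0, 0, 2, 0⟩⟩, ⟨e, v, w, o, e, e, o, o, e⟩),
   (⟨⟨0, 1, 0, 0, 0, 0, 0, 0⟩, ⟨1, 0, 0, 0, 0, 0, 0, 0⟩, ⟨0, 0, 0, 1, 0, 0, 0, 0⟩, ⟨0, 0, 1, 0, 0, 0, 0, 0⟩, ⟨0, 0, 0, 0, 0, 3, 0, 0⟩, ⟨0, 0, 0, 0, 3, 0, 0, 0⟩, ⟨0, 0, 0, 0, 0, 0, 0, 2⟩, ⟨0, 0, 0, 0, 0, 0, 2, 0⟩⟩, ⟨e, w, e, o, e, v, o, o, e⟩),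
   (⟨⟨0, 0, 1, 0, 0, 0, 0, 0⟩, ⟨0, 0, 0, 4, 0, 0, 0, 0⟩, ⟨2, 0, 0, 0, 0, 0, 0, 0⟩, ⟨0, 3, 0, 0, 0, 0, 0, 0⟩, ⟨0, 0, 0, 0, 0, 0, 1, 0⟩, ⟨0, 0, 0, 0, 0, 0, 0, 4⟩, ⟨0, 0, 0, 0, 3, 0, 0, 0⟩, ⟨0, 0, 0, 0, 0, 2, 0, 0⟩⟩, ⟨e, v, v, o, e, w, o, o, e⟩),
   (⟨⟨0, 0, 0, 4, 0, 0, 0, 0⟩, ⟨0, 0, 1, 0, 0, 0, 0, 0⟩, ⟨0, 2, 0, 0, 0, 0, 0, 0⟩, ⟨3, 0, 0, 0, 0, 0, 0, 0⟩, ⟨0, 0, 0, 0, 0, 0, 0, 3⟩, ⟨0, 0, 0, 0, 0, 0, 2, 0⟩, ⟨0, 0, 0, 0, 0, 4, 0, 0⟩, ⟨0, 0, 0, 0, 1, 0, 0, 0⟩⟩, ⟨e, e, w, o, e, e, o, o, e⟩),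
   (⟨⟨0, 0, 0, 1, 0, 0, 0, 0⟩, ⟨0, 0, 1, 0, 0, 0, 0, 0⟩, ⟨0, 4, 0, 0, 0, 0, 0, 0⟩, ⟨4, 0, 0, 0, 0, 0, 0, 0⟩, ⟨0, 0, 0, 0, 0, 0, 0, 2⟩, ⟨0, 0, 0, 0, 0, 0, 2, 0⟩, ⟨0, 0, 0, 0, 0, 2, 0, 0⟩, ⟨0, 0, 0, 0, 2, 0, 0, 0⟩⟩, ⟨e, o, w, o, e, v, o, o, e⟩),
   (⟨⟨0, 4, 0, 0, 0, 0, 0, 0⟩, ⟨1, 0, 0, 0, 0, 0, 0, 0⟩, ⟨0, 0, 0, 3, 0, 0, 0, 0⟩, ⟨0, 0, 2, 0, 0, 0, 0, 0⟩, ⟨0, 0, 0, 0, 0, 3, 0, 0⟩, ⟨0, 0, 0, 0, 2, 0, 0, 0⟩, ⟨0, 0, 0, 0, 0, 0, 0, 1⟩, ⟨0, 0, 0, 0, 0, 0, 4, 0⟩⟩, ⟨e, v, o, o, e, e, o, o, e⟩),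
   (⟨⟨0, 0, 0, 0, 0, 0, 0, 1⟩, ⟨0, 0, 0, 0, 0, 0, 1, 0⟩, ⟨0, 0, 0, 0, 0, 4, 0, 0⟩, ⟨0, 0, 0, 0, 4, 0, 0, 0⟩, ⟨0, 0, 0, 2, 0, 0, 0, 0⟩, ⟨0, 0, 2, 0, 0, 0, 0, 0⟩, ⟨0, 2, 0, 0, 0, 0, 0, 0⟩, ⟨2, 0, 0, 0, 0, 0, 0, 0⟩⟩, ⟨e, e, w, o, e, v, o, o, e⟩),
   (⟨⟨0, 3, 0, 0, 0, 0, 0, 0⟩, ⟨3, 0, 0, 0, 0, 0, 0, 0⟩, ⟨0, 0, 0, 2, 0, 0, 0, 0⟩, ⟨0, 0, 2, 0, 0, 0, 0, 0⟩, ⟨0, 0, 0, 0, 0, 4, 0, 0⟩, ⟨0, 0, 0, 0, 4, 0, 0, 0⟩, ⟨0, 0, 0, 0, 0, 0, 0, 4⟩, ⟨0, 0, 0, 0, 0, 0, 4, 0⟩⟩, ⟨e, w, v, o, e, v, o, o, e⟩),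
   (⟨⟨0, 0, 0, 0, 0, 0, 0, 1⟩, ⟨0, 0, 0, 0, 0, 0, 1, 0⟩, ⟨0, 0, 0, 0, 0, 1, 0, 0⟩, ⟨0, 0, 0, 0, 1, 0, 0, 0⟩, ⟨0, 0, 0, 2, 0, 0, 0, 0⟩, ⟨0, 0, 2, 0, 0, 0, 0, 0⟩, ⟨0, 3, 0, 0, 0, 0, 0, 0⟩, ⟨3, 0, 0, 0, 0, 0, 0, 0⟩⟩, ⟨e, e, o, o, e, v, o, o, e⟩),
   (⟨⟨0, 1, 0, 0, 0, 0, 0, 0⟩, ⟨1, 0, 0, 0, 0, 0, 0, 0⟩, ⟨0, 0, 0, 1, 0, 0, 0, 0⟩, ⟨0, 0, 1, 0, 0, 0, 0, 0⟩, ⟨0, 0, 0, 0, 0, 2, 0, 0⟩, ⟨0, 0, 0, 0, 2, 0, 0, 0⟩, ⟨0, 0, 0, 0, 0, 0, 0, 3⟩, ⟨0, 0, 0, 0, 0, 0, 3, 0⟩⟩, ⟨e, w, o, o, e, v, o, o, e⟩),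
   (⟨⟨0, 0, 2, 0, 0, 0, 0, 0⟩, ⟨0, 0, 0, 3, 0, 0, 0, 0⟩, ⟨1, 0, 0, 0, 0, 0, 0, 0⟩, ⟨0, 4, 0, 0, 0, 0, 0, 0⟩, ⟨0, 0, 0, 0, 0, 0, 3, 0⟩, ⟨0, 0, 0, 0, 0, 0, 0, 2⟩, ⟨0, 0, 0, 0, 1, 0, 0, 0⟩, ⟨0, 0, 0, 0, 0, 4, 0, 0⟩⟩, ⟨e, v, o, o, e, w, o, o, e⟩),
   (⟨⟨0, 0, 0, 0, 0, 0, 0, 3⟩, ⟨0, 0, 0, 0, 0, 0, 3, 0⟩, ⟨0, 0, 0, 0, 0, 3, 0, 0⟩, ⟨0, 0, 0, 0, 3, 0, 0, 0⟩, ⟨0, 0, 0, 4, 0, 0, 0, 0⟩, ⟨0, 0, 4, 0, 0, 0, 0, 0⟩, ⟨0, 1, 0, 0, 0, 0, 0, 0⟩, ⟨1, 0, 0, 0, 0, 0, 0, 0⟩⟩, ⟨e, e, e, o, e, v, o, o, e⟩),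
   (⟨⟨0, 2, 0, 0, 0, 0, 0, 0⟩, ⟨2, 0, 0, 0, 0, 0, 0, 0⟩, ⟨0, 0, 0, 3, 0, 0, 0, 0⟩, ⟨0, 0, 3, 0, 0, 0, 0, 0⟩, ⟨0, 0, 0, 0, 0, 4, 0, 0⟩, ⟨0, 0, 0, 0, 4, 0, 0, 0⟩, ⟨0, 0, 0, 0, 0, 0, 0, 4⟩, ⟨0, 0, 0, 0, 0, 0, 4, 0⟩⟩, ⟨e, w, w, o, e, v, o, o, e⟩),
   (⟨⟨0, 0, 0, 0, 0, 0, 1, 0⟩, ⟨0, 0, 0, 0, 0, 0, 0, 1⟩, ⟨0, 0, 0, 0, 4, 0, 0, 0⟩, ⟨0, 0, 0, 0, 0, 4, 0, 0⟩, ⟨0, 0, 4, 0, 0, 0, 0, 0⟩, ⟨0, 0, 0, 4, 0, 0, 0, 0⟩, ⟨1, 0, 0, 0, 0, 0, 0, 0⟩, ⟨0, 1, 0, 0, 0, 0, 0, 0⟩⟩, ⟨e, v, v, o, e, o, o, o, e⟩),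
   (⟨⟨0, 0, 0, 0, 0, 3, 0, 0⟩, ⟨0, 0, 0, 0, 3, 0, 0, 0⟩, ⟨0, 0, 0, 0, 0, 0, 0, 2⟩, ⟨0, 0, 0, 0, 0, 0, 2, 0⟩, ⟨0, 1, 0, 0, 0, 0, 0, 0⟩, ⟨1, 0, 0, 0, 0, 0, 0, 0⟩, ⟨0, 0, 0, 1, 0, 0, 0, 0⟩, ⟨0, 0, 1, 0, 0, 0, 0, 0⟩⟩, ⟨e, v, w, o, e, v, o, o, e⟩),
   (⟨⟨0, 0, 0, 0, 0, 4, 0, 0⟩, ⟨0, 0, 0, 0, 4, 0, 0, 0⟩, ⟨0, 0, 0, 0, 0, 0, 0, 4⟩, ⟨0, 0, 0, 0, 0, 0, 4, 0⟩, ⟨0, 3, 0, 0, 0, 0, 0, 0⟩, ⟨3, 0, 0, 0, 0, 0, 0, 0⟩, ⟨0, 0, 0, 2, 0, 0, 0, 0⟩, ⟨0, 0, 2, 0, 0, 0, 0, 0⟩⟩, ⟨e, v, o, o, e, v, o, o, e⟩),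
   (⟨⟨0, 0, 0, 2, 0, 0, 0, 0⟩, ⟨0, 0, 2, 0, 0, 0, 0, 0⟩, ⟨0, 3, 0, 0, 0, 0, 0, 0⟩, ⟨3, 0, 0, 0, 0, 0, 0, 0⟩, ⟨0, 0, 0, 0, 0, 0, 0, 1⟩, ⟨0, 0, 0, 0, 0, 0, 1, 0⟩, ⟨0, 0, 0, 0, 0, 1, 0, 0⟩, ⟨0, 0, 0, 0, 1, 0, 0, 0⟩⟩, ⟨e, o, v, o, e, v, o, o, e⟩),
   (⟨⟨0, 0, 0, 0, 0, 2, 0, 0⟩, ⟨0, 0, 0, 0, 2, 0, 0, 0⟩, ⟨0, 0, 0, 0, 0, 0, 0, 3⟩, ⟨0, 0, 0, 0, 0, 0, 3, 0⟩, ⟨0, 1, 0, 0, 0, 0, 0, 0⟩, ⟨1, 0, 0, 0, 0, 0, 0, 0⟩, ⟨0, 0, 0, 1, 0, 0, 0, 0⟩, ⟨0, 0, 1, 0, 0, 0, 0, 0⟩⟩, ⟨e, v, v, o, e, v, o, o, e⟩),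
   (⟨⟨0, 0, 0, 0, 0, 4, 0, 0⟩, ⟨0, 0, 0, 0, 4, 0, 0, 0⟩, ⟨0, 0, 0, 0, 0, 0, 0, 4⟩, ⟨0, 0, 0, 0, 0, 0, 4, 0⟩, ⟨0, 2, 0, 0, 0, 0, 0, 0⟩, ⟨2, 0, 0, 0, 0, 0, 0, 0⟩, ⟨0, 0, 0, 3, 0, 0, 0, 0⟩, ⟨0, 0, 3, 0, 0, 0, 0, 0⟩⟩, ⟨e, v, e, o, e, v, o, o, e⟩)]

/-- The parent and the generator of each representative. -/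
def tree1 : List (ℕ × ℕ) :=
  [(0, 1), (0, 2), (0, 3), (0, 4), (0, 5), (0, 6), (1, 2), (1, 3), (1, 4), (1, 5), (1, 6), (2, 3), (2, 4), (2, 5), (2, 6), (3, 4), (3, 5), (3, 6), (4, 5), (4, 6), (5, 1), (5, 3), (5, 6), (6, 1), (6, 3), (7, 3), (7, 4), (7, 6), (8, 4), (8, 5), (8, 6), (9, 5), (10, 3), (10, 6), (11, 3), (12, 4), (12, 5), (12, 6), (13, 5), (13, 6), (14, 3), (14, 6), (15, 1), (15, 3), (17, 1), (17, 6), (18, 1), (19, 1), (19, 6), (21, 3), (21, 6), (22, 6), (23, 1), (23, 3), (24, 3), (24, 5), (25, 5), (26, 4), (30, 6), (33, 6), (34, 1), (34, 3), (35, 5)]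

/-- The products of the representatives by the generators, by digits. -/
def ids1 : List (List ℕ) :=
  [[1, 0], [0, 1], [0, 2], [0, 3], [0, 4], [0, 5], [0, 6], [1, 1], [0, 0], [0, 7], [0, 8], [0, 9], [0, 10], [0, 11], [1, 2], [2, 7], [0, 0], [0, 12], [0, 13], [0, 14], [0, 15], [1, 3], [0, 8], [0, 12], [0, 0], [0, 16], [0, 17], [0, 18], [1, 4], [0, 9], [0, 13], [2, 16], [0, 0], [0, 19], [0, 20], [1, 5], [0, 21], [2, 14], [0, 22], [2, 19], [0, 0], [0, 23], [1, 6], [0, 24], [2, 15], [0, 25], [0, 20], [0, 23], [0, 0], [1, 7], [2, 2], [0, 1], [0, 26], [0, 27], [3, 21], [0, 28], [1, 8], [0, 3], [0, 26],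 [0, 1], [0, 29], [0, 30], [0, 31], [1, 9], [0, 4], [0, 27], [2, 29], [0, 1], [0, 32], [2, 24], [1, 10], [1, 14], [1, 21], [0, 33], [2, 32], [0, 1], [0, 34], [1, 11], [2, 20], [2, 28], [0, 35], [2, 24], [0, 34], [0, 1], [1, 12], [2, 26], [0, 3], [0, 2], [0, 36], [0, 37], [0, 38], [1, 13], [2, 27], [0, 4], [2, 36], [0, 2], [0, 39], [0, 40], [1, 14], [3, 10], [2, 5], [0, 41], [2, 39], [0, 2], [0, 42], [1, 15], [0, 43], [2, 6], [0, 44], [0, 40], [0, 42], [0, 2], [1, 16], [0, 29], [0, 36], [2, 4], [0, 3], [3, 22], [1, 44], [1, 17], [0, 45], [2, 37], [1, 19], [1, 22], [0, 3], [0, 46], [1, 18], [0, 47],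 [2, 38], [3, 40], [1, 44], [0, 46], [0, 3], [1, 19], [0, 48], [2, 39], [3, 17], [2, 5], [0, 4], [0, 49], [1, 20], [2, 11], [2, 40], [1, 38], [0, 6], [0, 49], [0, 4], [1, 21], [0, 5], [3, 10], [0, 50], [2, 48], [1, 7], [0, 51], [1, 22], [0, 50], [2, 41], [0, 5], [3, 17], [1, 16], [0, 52], [1, 23], [0, 53], [0, 42], [0, 54], [2, 49], [0, 6], [0, 5], [1, 24], [0, 6], [0, 43], [0, 55], [2, 11], [0, 56], [2, 9], [1, 25], [0, 55], [2, 44], [0, 6], [3, 38], [0, 57], [3, 36], [1, 26], [2, 12], [0, 8], [0, 7], [0, 58], [3, 45], [1, 55], [1, 27], [2, 13], [0, 9], [2, 58], [0, 7], [3, 48], [0, 43], [1, 28],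 [0, 40], [2, 11], [1, 47], [0, 43], [3, 51], [0, 7], [1, 29], [0, 16], [0, 58], [2, 9], [0, 8], [3, 33], [2, 47], [1, 30], [1, 37], [1, 45], [1, 32], [1, 33], [0, 8], [0, 59], [1, 31], [3, 44], [3, 55], [3, 43], [2, 47], [0, 59], [0, 8], [1, 32], [1, 39], [1, 48], [3, 30], [2, 10], [0, 9], [2, 56], [1, 33], [1, 41], [1, 50], [0, 10], [3, 30], [1, 29], [0, 60], [1, 34], [0, 61], [3, 51], [0, 62], [0, 56], [0, 11], [0, 10], [1, 35], [3, 38], [3, 47], [0, 11], [0, 55], [0, 63], [3, 58], [1, 36], [2, 58], [0, 16], [2, 13], [0, 12], [3, 41], [1, 25], [1, 37], [3, 30], [2, 17], [1, 39], [1, 41], [0, 12],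 [0, 54], [1, 38], [1, 35], [2, 18], [3, 20], [1, 25], [0, 54], [0, 12], [1, 39], [3, 32], [2, 19], [3, 37], [2, 14], [0, 13], [3, 61], [1, 40], [0, 28], [2, 20], [1, 18], [0, 15], [3, 61], [0, 13], [1, 41], [3, 33], [2, 22], [0, 14], [3, 37], [1, 36], [2, 57], [1, 42], [1, 56], [0, 23], [0, 46], [1, 61], [0, 15], [0, 14], [1, 43], [0, 15], [0, 24], [1, 31], [0, 28], [3, 53], [0, 27], [1, 44], [1, 31], [2, 25], [0, 15], [3, 18], [2, 52], [3, 16], [1, 45], [0, 17], [3, 30], [1, 48], [1, 50], [1, 26], [1, 62], [1, 46], [2, 63], [0, 54], [0, 42], [1, 52], [0, 18], [0, 17], [1, 47], [0, 18], [1, 35],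 [3, 28], [2, 31], [1, 60], [2, 29], [1, 48], [0, 19], [3, 32], [3, 45], [2, 21], [1, 27], [0, 53], [1, 49], [0, 51], [3, 61], [3, 57], [2, 23], [0, 20], [0, 19], [1, 50], [0, 22], [3, 33], [0, 21], [3, 45], [2, 58], [3, 63], [1, 51], [0, 49], [1, 34], [1, 59], [2, 53], [1, 28], [0, 21], [1, 52], [2, 62], [2, 57], [2, 61], [3, 46], [2, 44], [0, 22], [1, 53], [0, 23], [3, 56], [2, 60], [2, 51], [1, 43], [0, 48], [1, 54], [2, 60], [0, 46], [0, 23], [3, 57], [0, 38], [0, 37], [1, 55], [0, 25], [1, 31], [0, 24], [0, 35], [3, 62], [3, 26], [1, 56], [3, 42], [1, 53], [1, 63], [0, 34], [0, 24], [2, 32],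 [1, 57], [2, 59], [2, 52], [1, 49], [1, 54], [0, 25], [2, 41], [1, 58], [2, 36], [0, 29], [2, 27], [0, 26], [2, 50], [1, 35], [1, 59], [2, 57], [0, 62], [3, 51], [1, 60], [0, 31], [0, 30], [1, 60], [2, 54], [2, 63], [2, 53], [3, 59], [3, 47], [0, 33], [1, 61], [0, 34], [1, 49], [2, 52], [3, 42], [1, 40], [1, 39], [1, 62], [2, 52], [0, 59], [0, 34], [3, 63], [1, 55], [3, 45], [1, 63], [2, 46], [2, 60], [3, 56], [1, 62], [0, 35], [1, 50]]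

/-- A transversal. -/
def reps2 : List P :=
  [(⟨⟨1, 0, 0, 0, 0, 0, 0, 0⟩, ⟨0, 1, 0, 0, 0, 0, 0, 0⟩, ⟨0, 0, 1, 0, 0, 0, 0, 0⟩, ⟨0, 0, 0, 1, 0, 0, 0, 0⟩, ⟨0, 0, 0, 0, 1, 0, 0, 0⟩, ⟨0, 0, 0, 0, 0, 1, 0, 0⟩, ⟨0, 0, 0, 0, 0, 0, 1, 0⟩, ⟨0, 0, 0, 0, 0, 0, 0, 1⟩⟩, ⟨e, o, o, o, e, o, o, o, e⟩),
   (⟨⟨0, 0, 0, 0, 1, 1, 0, 0⟩, ⟨0, 0, 0, 0, 2, 3, 0, 0⟩, ⟨0, 0, 1, 1, 0, 0, 0, 0⟩, ⟨0, 0, 2, 3, 0, 0, 0, 0⟩, ⟨0, 0, 0, 0, 0, 0, 1, 1⟩, ⟨0, 0, 0, 0, 0, 0, 2, 3⟩, ⟨1, 1, 0, 0, 0, 0, 0, 0⟩, ⟨2, 3, 0, 0, 0, 0, 0, 0⟩⟩, ⟨e, o, o, o, w, o, o, o, v⟩),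
   (⟨⟨1, 0, 0, 0, 0, 0, 0, 0⟩, ⟨0, 1, 0, 0, 0, 0, 0, 0⟩, ⟨0, 0, 1, 0, 0, 0, 0, 0⟩, ⟨0, 0, 0, 1, 0, 0, 0, 0⟩, ⟨0, 0, 0, 0, 1, 0, 0, 0⟩, ⟨0, 0, 0, 0, 0, 1, 0, 0⟩, ⟨0, 0, 0, 0, 0, 0, 1, 0⟩, ⟨0, 0, 0, 0, 0, 0, 0, 1⟩⟩, ⟨w, o, o, o, w, o, o, o, w⟩),
   (⟨⟨0, 0, 0, 0, 0, 0, 3, 4⟩, ⟨0, 0, 0, 0, 0, 0, 3, 1⟩, ⟨0, 0, 3, 4, 0, 0, 0, 0⟩, ⟨0, 0, 3, 1, 0, 0, 0, 0⟩, ⟨3, 4, 0, 0, 0, 0, 0, 0⟩, ⟨3, 1, 0, 0, 0, 0, 0, 0⟩, ⟨0, 0, 0, 0, 3, 4, 0, 0⟩, ⟨0, 0, 0, 0, 3, 1, 0, 0⟩⟩, ⟨e, o, o, o, v, o, o, o, w⟩),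
   (⟨⟨0, 0, 0, 0, 1, 1, 0, 0⟩, ⟨0, 0, 0, 0, 2, 3, 0, 0⟩, ⟨0, 0, 1, 1, 0, 0, 0, 0⟩, ⟨0, 0, 2, 3, 0, 0, 0, 0⟩, ⟨0, 0, 0, 0, 0, 0, 1, 1⟩, ⟨0, 0, 0, 0, 0, 0, 2, 3⟩, ⟨1, 1, 0, 0, 0, 0, 0, 0⟩, ⟨2, 3, 0, 0, 0, 0, 0, 0⟩⟩, ⟨w, o, o, o, v, o, o, o, e⟩),
   (⟨⟨1, 0, 0, 0, 0, 0, 0, 0⟩, ⟨0, 1, 0, 0, 0, 0, 0, 0⟩, ⟨0, 0, 1, 0, 0, 0, 0, 0⟩, ⟨0, 0, 0, 1, 0, 0, 0, 0⟩, ⟨0, 0, 0, 0, 1, 0, 0, 0⟩, ⟨0, 0, 0, 0, 0, 1, 0, 0⟩, ⟨0, 0, 0, 0, 0, 0, 1, 0⟩, ⟨0, 0, 0, 0, 0, 0, 0, 1⟩⟩, ⟨v, o, o, o, v, o, o, o, v⟩),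
   (⟨⟨0, 0, 0, 0, 0, 0, 3, 4⟩, ⟨0, 0, 0, 0, 0, 0, 3, 1⟩, ⟨0, 0, 3, 4, 0, 0, 0, 0⟩, ⟨0, 0, 3, 1, 0, 0, 0, 0⟩, ⟨3, 4, 0, 0, 0, 0, 0, 0⟩, ⟨3, 1, 0, 0, 0, 0, 0, 0⟩, ⟨0, 0, 0, 0, 3, 4, 0, 0⟩, ⟨0, 0, 0, 0, 3, 1, 0, 0⟩⟩, ⟨w, o, o, o, e, o, o, o, v⟩),
   (⟨⟨0, 0, 0, 0, 1, 1, 0, 0⟩, ⟨0, 0, 0, 0, 2, 3, 0, 0⟩, ⟨0, 0, 1, 1, 0, 0, 0, 0⟩, ⟨0, 0, 2, 3, 0, 0, 0, 0⟩, ⟨0, 0, 0, 0, 0, 0, 1, 1⟩, ⟨0, 0, 0, 0, 0, 0, 2, 3⟩, ⟨1, 1, 0, 0, 0, 0, 0, 0⟩, ⟨2, 3, 0, 0, 0, 0, 0, 0⟩⟩, ⟨v, o, o, o, e, o, o, o, w⟩),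
   (⟨⟨0, 0, 0, 0, 0, 0, 3, 4⟩, ⟨0, 0, 0, 0, 0, 0, 3, 1⟩, ⟨0, 0, 3, 4, 0, 0, 0, 0⟩, ⟨0, 0, 3, 1, 0, 0, 0, 0⟩, ⟨3, 4, 0, 0, 0, 0, 0, 0⟩, ⟨3, 1, 0, 0, 0, 0, 0, 0⟩, ⟨0, 0, 0, 0, 3, 4, 0, 0⟩, ⟨0, 0, 0, 0, 3, 1, 0, 0⟩⟩, ⟨v, o, o, o, w, o, o, o, e⟩)]

/-- The parent and the generator of each representative. -/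
def tree2 : List (ℕ × ℕ) :=
  [(0, 7), (0, 8), (1, 7), (1, 8), (2, 8), (3, 8), (4, 8), (6, 8)]

/-- The products of the representatives by the generators, by digits. -/
def ids2 : List (List ℕ) :=
  [[1, 0, 0], [0, 1, 0], [0, 2, 0], [0, 3, 0], [0, 4, 0], [0, 5, 0], [0, 6, 0], [0, 0, 1], [0, 0, 2], [1, 0, 1], [0, 8, 1], [2, 4, 1], [0, 1, 1], [0, 13, 1], [0, 23, 1], [0, 5, 1], [0, 0, 3], [0, 0, 4], [1, 0, 2], [0, 1, 2], [0, 2, 2], [0, 3, 2], [0, 4, 2], [0, 5, 2], [0, 6, 2], [0, 0, 4], [0, 0, 5], [1, 0, 3], [0, 3, 3], [2, 13, 3], [0, 8, 3], [2, 2, 3], [0, 6, 3], [0, 23, 3], [0, 0, 0], [0, 0, 6], [1,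 0, 4], [0, 8, 4], [2, 4, 4], [0, 1, 4], [0, 13, 4], [0, 23, 4], [0, 5, 4], [0, 0, 6], [0, 0, 7], [1, 0, 5], [0, 1, 5], [0, 2, 5], [0, 3, 5], [0, 4, 5], [0, 5, 5], [0, 6, 5], [0, 0, 7], [0, 0, 0], [1, 0, 6], [0, 3, 6], [2, 13, 6], [0, 8, 6], [2, 2, 6], [0, 6, 6], [0, 23, 6], [0, 0, 2], [0, 0, 8], [1, 0, 7], [0, 8, 7], [2, 4, 7], [0, 1, 7], [0, 13, 7], [0, 23, 7], [0, 5, 7], [0, 0, 8], [0, 0, 1], [1, 0, 8], [0, 3, 8], [2, 13, 8], [0, 8, 8], [2, 2, 8], [0, 6, 8], [0, 23, 8], [0, 0, 5], [0, 0, 3]]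

/-- A transversal. -/
def reps3 : List P :=
  [(⟨⟨1, 0, 0, 0, 0, 0, 0, 0⟩, ⟨0, 1, 0, 0, 0, 0, 0, 0⟩, ⟨0, 0, 1, 0, 0, 0, 0, 0⟩, ⟨0, 0, 0, 1, 0, 0, 0, 0⟩, ⟨0, 0, 0, 0, 1, 0, 0, 0⟩, ⟨0, 0, 0, 0, 0, 1, 0, 0⟩, ⟨0, 0, 0, 0, 0, 0, 1, 0⟩, ⟨0, 0, 0, 0, 0, 0, 0, 1⟩⟩, ⟨e, o, o, o, e, o, o, o, e⟩),
   (⟨⟨2, 0, 3, 0, 2, 0, 3, 0⟩, ⟨4, 3, 1, 2, 4, 3, 1, 2⟩, ⟨3, 0, 3, 0, 3, 0, 3, 0⟩, ⟨1, 2, 1, 2, 1, 2, 1, 2⟩, ⟨2, 0, 3, 0, 3, 0, 2, 0⟩, ⟨4, 3, 1, 2, 1, 2, 4, 3⟩, ⟨3, 0, 3, 0, 2, 0, 2, 0⟩, ⟨1, 2, 1, 2, 4, 3, 4, 3⟩⟩, ⟨e, o, o, o, o, e, o, e, o⟩),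
   (⟨⟨0, 3, 0, 1, 0, 4, 0, 3⟩, ⟨3, 1, 1, 2, 4, 3, 3, 1⟩, ⟨0, 3, 0, 4, 0, 4, 0, 2⟩, ⟨3, 1, 4, 3, 4, 3, 2, 4⟩, ⟨0, 2, 0, 4, 0, 4, 0, 3⟩, ⟨2, 4, 4, 3, 4, 3, 3, 1⟩, ⟨0, 2, 0, 1, 0, 4, 0, 2⟩, ⟨2, 4, 1, 2, 4, 3, 2, 4⟩⟩, ⟨e, o, o, o, o, e, o, e, e⟩),
   (⟨⟨1, 0, 3, 0, 4, 0, 3, 0⟩, ⟨2, 1, 1, 3, 3, 4, 1, 3⟩, ⟨4, 0, 3, 0, 1, 0, 3, 0⟩, ⟨3, 4, 1, 3, 2, 1, 1, 3⟩, ⟨4, 0, 2, 0, 4, 0, 3, 0⟩, ⟨3, 4, 4, 2, 3, 4, 1, 3⟩, ⟨1, 0, 2, 0, 1, 0, 3, 0⟩, ⟨2, 1, 4, 2, 2, 1, 1, 3⟩⟩, ⟨e, o, o, o, o, e, o, e, w⟩),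
   (⟨⟨0, 3, 0, 2, 0, 4, 0, 4⟩, ⟨2, 1, 3, 4, 1, 3, 1, 3⟩, ⟨0, 3, 0, 3, 0, 4, 0, 1⟩, ⟨2, 1, 2, 1, 1, 3, 4, 2⟩, ⟨0, 3, 0, 2, 0, 1, 0, 1⟩, ⟨2, 1, 3, 4, 4, 2, 4, 2⟩, ⟨0, 3, 0, 3, 0, 1, 0, 4⟩, ⟨2, 1, 2, 1, 4, 2, 1, 3⟩⟩, ⟨e, o, o, o, o, e, o, e, v⟩)]

/-- The parent and the generator of each representative. -/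
def tree3 : List (ℕ × ℕ) :=
  [(0, 9), (1, 5), (1, 6), (2, 6)]

/-- The products of the representatives by the generators, by digits. -/
def ids3 : List (List ℕ) :=
  [[1, 0, 0, 0], [0, 1, 0, 0], [0, 2, 0, 0], [0, 3, 0, 0], [0, 4, 0, 0], [0, 5, 0, 0], [0, 6, 0, 0], [0, 0, 1, 0], [0, 0, 2, 0], [0, 0, 0, 1], [1, 0, 0, 1], [0, 2, 0, 1], [0, 1, 0, 1], [2, 4, 0, 1], [2, 3, 0, 1], [0, 0, 0, 2], [0, 0, 0, 3], [0, 0, 3, 1], [0, 0, 2, 1], [0, 0, 0, 0], [1, 0, 0, 2], [3, 7, 0, 2], [2, 1, 0, 2], [3, 16, 0, 2], [0, 3, 0, 2], [0, 0, 0, 1], [0, 0, 0, 4], [0, 0, 3, 3], [0, 0, 2, 2], [2, 5, 0, 2], [1, 0, 0, 3],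 [0, 12, 0, 3], [2, 1, 0, 3], [1, 29, 0, 3], [2, 3, 0, 3], [0, 0, 0, 4], [0, 0, 0, 1], [0, 0, 3, 4], [0, 0, 2, 3], [2, 23, 3, 4], [1, 0, 0, 4], [1, 26, 0, 4], [0, 1, 0, 4], [2, 9, 0, 4], [0, 3, 0, 4], [0, 0, 0, 3], [0, 0, 0, 2], [0, 0, 3, 2], [0, 0, 2, 4], [2, 6, 1, 3]]

/-- A transversal. -/
def reps4 : List P :=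
  [(⟨⟨1, 0, 0, 0, 0, 0, 0, 0⟩, ⟨0, 1, 0, 0, 0, 0, 0, 0⟩, ⟨0, 0, 1, 0, 0, 0, 0, 0⟩, ⟨0, 0, 0, 1, 0, 0, 0, 0⟩, ⟨0, 0, 0, 0, 1, 0, 0, 0⟩, ⟨0, 0, 0, 0, 0, 1, 0, 0⟩, ⟨0, 0, 0, 0, 0, 0, 1, 0⟩, ⟨0, 0, 0, 0, 0, 0, 0, 1⟩⟩, ⟨e, o, o, o, e, o, o, o, e⟩),
   (⟨⟨4, 1, 4, 1, 2, 2, 1, 1⟩, ⟨3, 1, 4, 2, 4, 2, 1, 2⟩, ⟨2, 4, 4, 2, 4, 2, 4, 3⟩, ⟨1, 4, 4, 1, 2, 2, 4, 4⟩, ⟨3, 2, 2, 3, 4, 4, 3, 3⟩, ⟨4, 3, 3, 4, 2, 1, 2, 4⟩, ⟨3, 1, 4, 2, 1, 3, 4, 3⟩, ⟨1, 4, 1, 4, 2, 2, 1, 1⟩⟩, ⟨o, e, o, e, o, o, o, o, e⟩),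
   (⟨⟨2, 2, 1, 1, 4, 1, 4, 1⟩, ⟨4, 2, 1, 2, 3, 1, 4, 2⟩, ⟨4, 2, 4, 3, 2, 4, 4, 2⟩, ⟨2, 2, 4, 4, 1, 4, 4, 1⟩, ⟨4, 4, 3, 3, 3, 2, 2, 3⟩, ⟨2, 1, 2, 4, 4, 3, 3, 4⟩, ⟨1, 3, 4, 3, 3, 1, 4, 2⟩, ⟨2, 2, 1, 1, 1, 4, 1, 4⟩⟩, ⟨o, e, o, e, e, o, o, o, e⟩),
   (⟨⟨4, 1, 4, 1, 1, 1, 2, 2⟩, ⟨4, 2, 3, 1, 1, 2, 4, 2⟩, ⟨4, 2, 2, 4, 4, 3, 4, 2⟩, ⟨4, 1, 1, 4, 4, 4, 2, 2⟩, ⟨2, 3, 3, 2, 3, 3, 4, 4⟩, ⟨3, 4, 4, 3, 2, 4, 2, 1⟩, ⟨4, 2, 3, 1, 4, 3, 1, 3⟩, ⟨1, 4, 1, 4, 1, 1, 2, 2⟩⟩, ⟨o, e, o, e, w, o, o, o, e⟩),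
   (⟨⟨1, 3, 3, 0, 4, 2, 4, 3⟩, ⟨0, 2, 3, 4, 3, 2, 0, 3⟩, ⟨0, 3, 3, 2, 3, 4, 0, 2⟩, ⟨4, 3, 4, 2, 3, 0, 1, 3⟩, ⟨4, 0, 3, 4, 2, 4, 2, 1⟩, ⟨1, 3, 0, 4, 0, 1, 1, 4⟩, ⟨3, 2, 0, 3, 0, 2, 3, 4⟩, ⟨1, 3, 1, 2, 4, 2, 2, 0⟩⟩, ⟨o, o, e, e, o, o, o, e, o⟩),
   (⟨⟨1, 1, 2, 2, 4, 1, 4, 1⟩, ⟨1, 2, 4, 2, 4, 2, 3, 1⟩, ⟨4, 3, 4, 2, 4, 2, 2, 4⟩, ⟨4, 4, 2, 2, 4, 1, 1, 4⟩, ⟨3, 3, 4, 4, 2, 3, 3, 2⟩, ⟨2, 4, 2, 1, 3, 4, 4, 3⟩, ⟨4, 3, 1, 3, 4, 2, 3, 1⟩, ⟨1, 1, 2, 2, 1, 4, 1, 4⟩⟩, ⟨o, e, o, e, v, o, o, o, e⟩),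
   (⟨⟨1, 3, 3, 0, 1, 3, 1, 2⟩, ⟨0, 2, 3, 4, 2, 3, 0, 2⟩, ⟨0, 3, 3, 2, 2, 1, 0, 3⟩, ⟨4, 3, 4, 2, 2, 0, 4, 2⟩, ⟨4, 0, 3, 4, 3, 1, 3, 4⟩, ⟨1, 3, 0, 4, 0, 4, 4, 1⟩, ⟨3, 2, 0, 3, 0, 3, 2, 1⟩, ⟨1, 3, 1, 2, 1, 3, 3, 0⟩⟩, ⟨o, o, e, e, o, e, o, e, o⟩),
   (⟨⟨4, 2, 3, 0, 1, 3, 4, 3⟩, ⟨0, 3, 3, 4, 2, 3, 0, 3⟩, ⟨0, 2, 3, 2, 2, 1, 0, 2⟩, ⟨1, 2, 4, 2, 2, 0, 1, 3⟩, ⟨1, 0, 3, 4, 3, 1, 2, 1⟩, ⟨4, 2, 0, 4, 0, 4, 1, 4⟩, ⟨2, 3, 0, 3, 0, 3, 3, 4⟩, ⟨4, 2, 1, 2, 1, 3, 2, 0⟩⟩, ⟨o, o, e, e, o, w, o, e, o⟩),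
   (⟨⟨2, 4, 4, 2, 0, 4, 3, 4⟩, ⟨2, 0, 4, 4, 3, 4, 2, 0⟩, ⟨3, 0, 3, 4, 4, 4, 3, 0⟩, ⟨2, 1, 0, 4, 4, 2, 3, 1⟩, ⟨4, 2, 3, 1, 3, 4, 0, 1⟩, ⟨1, 1, 2, 0, 3, 0, 3, 4⟩, ⟨1, 3, 4, 0, 1, 0, 2, 2⟩, ⟨0, 2, 4, 2, 4, 3, 3, 4⟩⟩, ⟨o, o, e, e, o, o, o, e, e⟩),
   (⟨⟨2, 4, 4, 2, 2, 4, 3, 0⟩, ⟨4, 4, 0, 2, 0, 1, 3, 1⟩, ⟨4, 3, 0, 3, 0, 4, 3, 3⟩, ⟨4, 0, 1, 2, 3, 4, 4, 3⟩, ⟨1, 3, 2, 4, 3, 0, 3, 1⟩, ⟨0, 2, 1, 1, 2, 4, 0, 1⟩, ⟨0, 4, 3, 1, 1, 1, 0, 2⟩, ⟨2, 4, 2, 0, 2, 4, 1, 3⟩⟩, ⟨o, o, e, e, o, o, o, e, w⟩),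
   (⟨⟨4, 2, 3, 0, 4, 2, 1, 2⟩, ⟨0, 3, 3, 4, 3, 2, 0, 2⟩, ⟨0, 2, 3, 2, 3, 4, 0, 3⟩, ⟨1, 2, 4, 2, 3, 0, 4, 2⟩, ⟨1, 0, 3, 4, 2, 4, 3, 4⟩, ⟨4, 2, 0, 4, 0, 1, 4, 1⟩, ⟨2, 3, 0, 3, 0, 2, 2, 1⟩, ⟨4, 2, 1, 2, 4, 2, 3, 0⟩⟩, ⟨o, o, e, e, o, v, o, e, o⟩),
   (⟨⟨3, 1, 1, 3, 0, 4, 3, 4⟩, ⟨3, 0, 1, 1, 3, 4, 2, 0⟩, ⟨2, 0, 2, 1, 4, 4, 3, 0⟩, ⟨3, 4, 0, 1, 4, 2, 3, 1⟩, ⟨1, 3, 2, 4, 3, 4, 0, 1⟩, ⟨4, 4, 3, 0, 3, 0, 3, 4⟩, ⟨4, 2, 1, 0, 1, 0, 2, 2⟩, ⟨0, 3, 1, 3, 4, 3, 3, 4⟩⟩, ⟨o, o, e, e, o, e, o, e, e⟩),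
   (⟨⟨3, 1, 1, 3, 2, 4, 3, 0⟩, ⟨1, 1, 0, 3, 0, 1, 3, 1⟩, ⟨1, 2, 0, 2, 0, 4, 3, 3⟩, ⟨1, 0, 4, 3, 3, 4, 4, 3⟩, ⟨4, 2, 3, 1, 3, 0, 3, 1⟩, ⟨0, 3, 4, 4, 2, 4, 0, 1⟩, ⟨0, 1, 2, 4, 1, 1, 0, 2⟩, ⟨3, 1, 3, 0, 2, 4, 1, 3⟩⟩, ⟨o, o, e, e, o, e, o, e, w⟩),
   (⟨⟨2, 4, 1, 3, 0, 4, 2, 1⟩, ⟨2, 0, 1, 1, 3, 4, 3, 0⟩, ⟨3, 0, 2, 1, 4, 4, 2, 0⟩, ⟨2, 1, 0, 1, 4, 2, 2, 4⟩, ⟨4, 2, 2, 4, 3, 4, 0, 4⟩, ⟨1, 1, 3, 0, 3, 0, 2, 1⟩, ⟨1, 3, 1, 0, 1, 0, 3, 3⟩, ⟨0, 2, 1, 3, 4, 3, 2, 1⟩⟩, ⟨o, o, e, e, o, w, o, e, e⟩),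
   (⟨⟨3, 1, 4, 2, 3, 1, 3, 0⟩, ⟨1, 1, 0, 2, 0, 4, 3, 1⟩, ⟨1, 2, 0, 3, 0, 1, 3, 3⟩, ⟨1, 0, 1, 2, 2, 1, 4, 3⟩, ⟨4, 2, 2, 4, 2, 0, 3, 1⟩, ⟨0, 3, 1, 1, 3, 1, 0, 1⟩, ⟨0, 1, 3, 1, 4, 4, 0, 2⟩, ⟨3, 1, 2, 0, 3, 1, 1, 3⟩⟩, ⟨o, o, e, e, o, w, o, e, w⟩),
   (⟨⟨0, 3, 3, 1, 4, 2, 4, 3⟩, ⟨4, 3, 2, 0, 4, 0, 4, 1⟩, ⟨2, 3, 3, 0, 1, 0, 3, 1⟩, ⟨2, 4, 3, 4, 4, 3, 0, 1⟩, ⟨4, 3, 0, 4, 3, 1, 3, 4⟩, ⟨4, 0, 3, 1, 2, 3, 2, 0⟩, ⟨3, 0, 2, 3, 2, 4, 4, 0⟩, ⟨2, 1, 3, 1, 0, 1, 4, 3⟩⟩, ⟨o, o, e, e, o, o, o, e, v⟩),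
   (⟨⟨4, 2, 2, 4, 3, 0, 2, 4⟩, ⟨0, 2, 4, 4, 3, 1, 0, 1⟩, ⟨0, 3, 4, 3, 3, 3, 0, 4⟩, ⟨1, 2, 4, 0, 4, 3, 3, 4⟩, ⟨2, 4, 1, 3, 3, 1, 3, 0⟩, ⟨1, 1, 0, 2, 0, 1, 2, 4⟩, ⟨3, 1, 0, 4, 0, 2, 1, 1⟩, ⟨2, 0, 2, 4, 1, 3, 2, 4⟩⟩, ⟨o, o, e, e, w, o, o, e, w⟩),
   (⟨⟨3, 1, 4, 2, 0, 4, 2, 1⟩, ⟨3, 0, 4, 4, 3, 4, 3, 0⟩, ⟨2, 0, 3, 4, 4, 4, 2, 0⟩, ⟨3, 4, 0, 4, 4, 2, 2, 4⟩, ⟨1, 3, 3, 1, 3, 4, 0, 4⟩, ⟨4, 4, 2, 0, 3, 0, 2, 1⟩, ⟨4, 2, 4, 0, 1, 0, 3, 3⟩, ⟨0, 3, 4, 2, 4, 3, 2, 1⟩⟩, ⟨o, o, e, e, o, v, o, e, e⟩),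
   (⟨⟨0, 3, 3, 1, 1, 3, 1, 2⟩, ⟨4, 3, 2, 0, 1, 0, 1, 4⟩, ⟨2, 3, 3, 0, 4, 0, 2, 4⟩, ⟨2, 4, 3, 4, 1, 2, 0, 4⟩, ⟨4, 3, 0, 4, 2, 4, 2, 1⟩, ⟨4, 0, 3, 1, 3, 2, 3, 0⟩, ⟨3, 0, 2, 3, 3, 1, 1, 0⟩, ⟨2, 1, 3, 1, 0, 4, 1, 2⟩⟩, ⟨o, o, e, e, o, e, o, e, v⟩),
   (⟨⟨3, 3, 2, 0, 0, 1, 0, 4⟩, ⟨0, 1, 1, 4, 3, 4, 2, 3⟩, ⟨4, 2, 4, 1, 0, 2, 3, 2⟩, ⟨0, 3, 0, 3, 1, 1, 1, 0⟩, ⟨0, 1, 0, 1, 3, 0, 3, 3⟩, ⟨2, 3, 2, 1, 1, 4, 0, 4⟩, ⟨4, 1, 0, 4, 2, 3, 3, 4⟩, ⟨2, 0, 3, 3, 0, 1, 0, 4⟩⟩, ⟨o, o, v, e, o, v, o, w, e⟩),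
   (⟨⟨0, 3, 2, 4, 4, 2, 1, 2⟩, ⟨4, 3, 3, 0, 4, 0, 1, 4⟩, ⟨2, 3, 2, 0, 1, 0, 2, 4⟩, ⟨2, 4, 2, 1, 4, 3, 0, 4⟩, ⟨4, 3, 0, 1, 3, 1, 2, 1⟩, ⟨4, 0, 2, 4, 2, 3, 3, 0⟩, ⟨3, 0, 3, 2, 2, 4, 1, 0⟩, ⟨2, 1, 2, 4, 0, 1, 1, 2⟩⟩, ⟨o, o, e, e, o, w, o, e, v⟩)]

/-- The parent and the generator of each representative. -/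
def tree4 : List (ℕ × ℕ) :=
  [(0, 10), (1, 1), (1, 3), (1, 9), (2, 3), (2, 9), (3, 9), (4, 5), (4, 6), (5, 9), (6, 5), (6, 6), (7, 5), (7, 6), (8, 6), (9, 3), (10, 5), (11, 6), (12, 7), (13, 6)]

/-- The products of the representatives by the generators, by digits. -/
def ids4 : List (List ℕ) :=
  [[1, 0, 0, 0, 0], [0, 1, 0, 0, 0], [0, 2, 0, 0, 0], [0, 3, 0, 0, 0], [0, 4, 0, 0, 0], [0, 5, 0, 0, 0], [0, 6, 0, 0, 0], [0, 0, 1, 0, 0], [0, 0, 2, 0, 0], [0, 0, 0, 1, 0], [0, 0, 0, 0, 1], [1, 0, 0, 0, 1], [0, 0, 0, 0, 2], [0, 5, 0, 0, 1], [0, 0, 0, 0, 3], [2, 6, 0, 0, 1], [0, 2, 0, 0, 1], [2, 4, 0, 0,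 1], [0, 0, 6, 0, 1], [0, 0, 2, 0, 1], [0, 0, 0, 0, 4], [0, 0, 0, 0, 0], [1, 0, 0, 0, 2], [0, 0, 0, 0, 1], [2, 5, 0, 0, 2], [0, 0, 0, 0, 5], [2, 6, 0, 0, 2], [3, 14, 0, 0, 2], [2, 20, 0, 0, 2], [0, 0, 6, 0, 3], [0, 0, 2, 0, 2], [0, 0, 0, 0, 6], [2, 1, 0, 0, 2], [1, 0, 0, 0, 3], [0, 0, 0, 0, 5], [0, 5, 0, 0, 3], [0, 0, 0, 0, 1], [0, 6, 0, 0, 3], [1, 15, 0, 0, 3], [1, 49, 0, 0, 3], [0, 0, 6, 0, 5], [0, 0, 2, 0, 3], [0, 0, 0, 0, 7], [2, 8, 8, 0, 5], [1, 0, 0, 0, 4], [0, 5, 0, 0, 4], [0, 0, 0, 0, 6], [0, 6, 0, 0, 4], [2, 0, 0, 0, 7], [0, 0, 0, 0, 8], [0, 0, 0, 0, 9], [0, 0, 7, 0, 4], [0, 0, 2, 0, 4],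 [0, 0, 0, 0, 1], [0, 0, 0, 1, 4], [1, 0, 0, 0, 5], [0, 0, 0, 0, 3], [2, 5, 0, 0, 5], [0, 0, 0, 0, 2], [0, 6, 0, 0, 5], [0, 42, 0, 0, 5], [3, 19, 0, 0, 5], [0, 0, 6, 0, 2], [0, 0, 2, 0, 5], [0, 0, 0, 0, 10], [2, 3, 4, 0, 3], [1, 0, 0, 0, 6], [2, 5, 0, 0, 6], [0, 0, 0, 0, 4], [0, 6, 0, 0, 6], [2, 0, 0, 0, 10], [0, 0, 0, 0, 11], [0, 0, 0, 0, 12], [0, 0, 7, 0, 10], [0, 0, 2, 0, 6], [0, 0, 0, 0, 2], [0, 0, 0, 1, 8], [1, 0, 0, 0, 7], [0, 5, 0, 0, 7], [0, 0, 0, 0, 10], [2, 6, 0, 0, 7], [2, 0, 0, 0, 4], [0, 0, 0, 0, 13], [0, 0, 0, 0, 14], [0, 0, 7, 0, 6], [0, 0, 2, 0, 7], [0, 0, 0, 0, 3], [0, 0, 0, 1, 9],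 [1, 0, 0, 0, 8], [1, 5, 0, 0, 11], [2, 0, 0, 0, 11], [3, 6, 0, 0, 13], [0, 0, 0, 0, 13], [0, 0, 0, 0, 4], [0, 0, 0, 0, 15], [0, 0, 7, 0, 9], [0, 0, 2, 0, 8], [2, 2, 0, 0, 8], [0, 0, 0, 1, 6], [1, 0, 0, 0, 9], [0, 5, 0, 0, 14], [2, 0, 0, 0, 12], [0, 0, 0, 0, 16], [2, 0, 0, 0, 14], [0, 0, 0, 0, 15], [0, 0, 0, 0, 4], [0, 0, 7, 0, 15], [0, 0, 2, 0, 9], [0, 13, 7, 0, 15], [0, 0, 0, 1, 7], [1, 0, 0, 0, 10], [2, 5, 0, 0, 10], [0, 0, 0, 0, 7], [2, 6, 0, 0, 10], [2, 0, 0, 0, 6], [0, 0, 0, 0, 17], [3, 6, 0, 0, 16], [0, 0, 7, 0, 7], [0, 0, 2, 0, 10], [0, 0, 0, 0, 5], [0, 0, 0, 1, 15], [1, 0, 0, 0, 11], [3,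 5, 0, 0, 8], [2, 0, 0, 0, 8], [3, 6, 0, 0, 17], [0, 0, 0, 0, 17], [0, 0, 0, 0, 6], [0, 0, 0, 0, 18], [3, 5, 7, 0, 16], [0, 0, 2, 0, 11], [1, 14, 0, 0, 11], [2, 0, 0, 1, 11], [1, 0, 0, 0, 12], [1, 23, 0, 0, 16], [2, 0, 0, 0, 9], [1, 6, 0, 0, 14], [1, 6, 0, 0, 16], [0, 0, 0, 0, 18], [0, 0, 0, 0, 6], [0, 0, 0, 0, 19], [0, 0, 2, 0, 12], [0, 61, 0, 0, 19], [2, 0, 0, 1, 13], [1, 0, 0, 0, 13], [1, 5, 0, 0, 17], [2, 0, 0, 0, 17], [1, 6, 0, 0, 8], [0, 0, 0, 0, 8], [0, 0, 0, 0, 7], [0, 0, 0, 0, 20], [0, 0, 7, 0, 12], [0, 0, 2, 0, 13], [3, 15, 0, 0, 13], [2, 0, 0, 1, 12], [1, 0, 0, 0, 14], [0, 5, 0, 0, 9],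 [1, 6, 0, 0, 16], [3, 6, 0, 0, 12], [2, 0, 0, 0, 9], [0, 0, 0, 0, 20], [0, 0, 0, 0, 7], [0, 0, 7, 0, 18], [0, 0, 2, 0, 14], [0, 39, 7, 0, 18], [0, 0, 0, 1, 14], [1, 0, 0, 0, 15], [3, 5, 6, 0, 19], [0, 0, 0, 0, 18], [0, 6, 0, 0, 18], [0, 0, 0, 0, 20], [0, 0, 0, 0, 9], [0, 0, 0, 0, 8], [0, 0, 7, 0, 8], [0, 0, 2, 0, 15], [0, 4, 6, 0, 9], [0, 0, 0, 1, 10], [1, 0, 0, 0, 16], [3, 23, 0, 0, 12], [3, 6, 0, 0, 14], [0, 0, 0, 0, 9], [3, 6, 0, 0, 12], [1, 6, 6, 0, 19], [1, 6, 0, 0, 10], [1, 6, 7, 0, 20], [0, 0, 2, 0, 16], [2, 13, 7, 0, 20], [3, 6, 0, 1, 20], [1, 0, 0, 0, 17], [3, 5, 0, 0, 13], [2, 0, 0, 0,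 13], [1, 6, 0, 0, 11], [0, 0, 0, 0, 11], [0, 0, 0, 0, 10], [0, 0, 6, 0, 19], [0, 0, 7, 0, 14], [0, 0, 2, 0, 17], [2, 42, 0, 0, 17], [0, 0, 0, 1, 18], [1, 0, 0, 0, 18], [1, 5, 0, 0, 20], [0, 0, 0, 0, 15], [0, 6, 0, 0, 15], [0, 0, 6, 0, 19], [0, 0, 0, 0, 12], [0, 0, 0, 0, 11], [0, 0, 7, 0, 17], [0, 0, 2, 0, 18], [0, 20, 6, 0, 14], [0, 0, 0, 1, 17], [1, 0, 0, 0, 19], [1, 23, 7, 0, 15], [0, 0, 7, 0, 20], [2, 5, 7, 0, 20], [0, 0, 7, 0, 18], [3, 5, 7, 0, 16], [0, 0, 7, 0, 17], [0, 0, 6, 0, 13], [0, 0, 2, 0, 19], [0, 61, 0, 0, 12], [2, 0, 3, 1, 19], [1, 0, 0, 0, 20], [3, 5, 0, 0, 18], [0, 0, 6, 0, 19],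 [2, 6, 6, 0, 19], [0, 0, 0, 0, 15], [0, 0, 0, 0, 14], [0, 0, 0, 0, 13], [0, 0, 7, 0, 11], [0, 0, 2, 0, 20], [2, 4, 6, 0, 16], [1, 0, 0, 3, 16]]

/-- Lifts of the elementary matrices. -/
def elTab : List ((Fin 3 × Fin 3 × F4) × List ℕ) :=
  [((0, 1, e), [0, 1, 0, 0, 0]),
   ((0, 1, w), [0, 3, 0, 0, 0]),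
   ((0, 1, v), [0, 8, 0, 0, 0]),
   ((0, 2, e), [0, 2, 0, 0, 0]),
   ((0, 2, w), [0, 4, 0, 0, 0]),
   ((0, 2, v), [0, 13, 0, 0, 0]),
   ((1, 0, e), [0, 1, 0, 0, 2]),
   ((1, 0, w), [0, 8, 8, 0, 5]),
   ((1, 0, v), [0, 3, 4, 0, 3]),
   ((1, 2, e), [0, 5, 0, 0, 0]),
   ((1, 2, w), [0, 6, 0, 0, 0]),
   ((1, 2, v), [0, 23, 0, 0, 0]),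
   ((2, 0, e), [0, 2, 0, 1, 6]),
   ((2, 0, w), [0, 13, 7, 1, 10]),
   ((2, 0, v), [0, 4, 6, 1, 7]),
   ((2, 1, e), [0, 5, 0, 2, 0]),
   ((2, 1, w), [0, 23, 3, 4, 0]),
   ((2, 1, v), [0, 6, 1, 3, 0])]

end Cfsg.Agent.L34Mult
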