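import Cfsg.Agent.Lib.L34Mult.Main
import Mathlib.FieldTheory.Finite.GaloisField

/-!
The multiplier of `PSL₃` over any field with four elements.
-/

set_option autoImplicit false
set_option linter.style.haveILetI false

namespace Cfsg.Agent.L34Mult

open Matrix
open Cfsg.Agent.SylL34 (F4 fieldF4)

universe u

theorem exists_equiv {F : Type u} [Field F] [Fintype F] (hF : Fintype.card F = 4) :
    Nonempty (L34Cover.G ≃* Matrix.ProjectiveSpecialLinearGroup (Fin 3) F) := by
  classical
  obtain ⟨f⟩ : Nonempty (F4 ≃+* F) :=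
    ⟨FiniteField.ringEquivOfCardEq (K := F4) (K' := F) (by rw [SylL34.card_F4, hF])⟩
  let φ : L34Cover.S3 →* Matrix.SpecialLinearGroup (Fin 3) F := SpecialLinearGroup.map f.toRingHom
  let ψ : Matrix.SpecialLinearGroup (Fin 3) F →* L34Cover.S3 := SpecialLinearGroup.map f.symm.toRingHom
  let e : L34Cover.S3 ≃* Matrix.SpecialLinearGroup (Fin 3) F :=
    { toFun := φ
      invFun := ψ
      left_inv := fun g => Subtype.ext (by
        show (g.1.map f).map f.symm = g.1
        ext i j; simp)
      right_inv := fun g => Subtype.ext (by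
        show (g.1.map f.symm).map f = g.1
        ext i j; simp)
      map_mul' := map_mul φ }
  exact ⟨QuotientGroup.congr _ _ e (L34Cover.map_center e)⟩

/-- The Schur multiplier of `PSL₃(4)`. -/
theorem hasSchurMultiplier {F : Type u} [Field F] [Fintype F] (hF : Fintype.card F = 4) :
    Cfsg.HasSchurMultiplier (Matrix.ProjectiveSpecialLinearGroup (Fin 3) F)
      (Multiplicative (ZMod 3 × ZMod 4 × ZMod 4)) := by
  obtain ⟨e⟩ := exists_equiv hF
  have hup : ∀ (Γ : Type u) [Group Γ] [Finite Γ]
      (σ : Γ →* Matrix.ProjectiveSpecialLinearGroup (Fin 3) F), Cfsg.IsStemExtension σ →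
      ∃ π : Multiplicative (ZMod 3 × ZMod 4 × ZMod 4) →* σ.ker, Function.Surjective π := by
    intro Γ _ _ σ hσ
    have hk : (e.symm.toMonoidHom.comp σ).ker = σ.ker := by
      ext y
      exact e.symm.map_eq_one_iff
    obtain ⟨π, hπ⟩ := exists_surjective (e.symm.toMonoidHom.comp σ)
      ⟨e.symm.surjective.comp hσ.1, hk ▸ hσ.2.1, hk ▸ hσ.2.2⟩
    exact ⟨(MulEquiv.subgroupCongr hk).toMonoidHom.comp π,
      (MulEquiv.subgroupCongr hk).surjective.comp hπ⟩
  refine ⟨?_, hup⟩
  obtain ⟨hs, hz, hc⟩ := quad_stem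
  let d : ULift.{u} Quad ≃* Quad := MulEquiv.ulift
  let σ : ULift.{u} Quad →* Matrix.ProjectiveSpecialLinearGroup (Fin 3) F :=
    e.toMonoidHom.comp (quadHom.comp d.toMonoidHom)
  have hker : ∀ x, x ∈ σ.ker ↔ d x ∈ quadHom.ker := fun x => e.map_eq_one_iff
  have hσ : Cfsg.IsStemExtension σ := by
    refine ⟨e.surjective.comp (hs.comp d.surjective), fun x hx => ?_, fun x hx => ?_⟩
    · exact Subgroup.mem_center_iff.2 fun g => d.injective (by
        rw [map_mul, map_mul]
        exact Subgroup.mem_center_iff.1 (hz ((hker x).1 hx)) _)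
    · have h1 := hc ((hker x).1 hx)
      have h2 : (_root_.commutator Quad).map d.symm.toMonoidHom ≤ _root_.commutator (ULift.{u} Quad) := by
        rw [_root_.commutator_def, _root_.commutator_def, Subgroup.map_commutator]
        exact Subgroup.commutator_mono le_top le_top
      exact h2 ⟨d x, h1, d.symm_apply_apply x⟩
  haveI : Finite (ULift.{u} Quad) := inferInstance
  obtain ⟨π, hπ⟩ := hup _ σ hσ
  refine ⟨_, inferInstance, inferInstance, σ, hσ, ⟨(MulEquiv.ofBijective π ?_).symm⟩⟩
  let k : quadHom.ker → σ.ker := fun y => ⟨d.symm y, (hker _).2 (by rw [d.apply_symm_apply]; exact y.2)⟩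
  have h4 : 48 ≤ Nat.card σ.ker := card_ker_quad.trans (Nat.card_le_card_of_injective k fun y y' h =>
    Subtype.ext (d.symm.injective (congrArg Subtype.val h)))
  refine hπ.bijective_of_nat_card_le ?_
  rw [Nat.card_eq_fintype_card (α := Multiplicative (ZMod 3 × ZMod 4 × ZMod 4)),
    Fintype.card_multiplicative, Fintype.card_prod, Fintype.card_prod, ZMod.card, ZMod.card]
  exact h4

end Cfsg.Agent.L34Mult
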