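import Cfsg.Agent.Lib.L34Mult.Cert
import Cfsg.Agent.Lib.Schur.SLn
import Cfsg.Agent.Lib.L34Cover.Model

/-!
The cover `4.SL₃(4)` as a group of units of pairs of matrices.
-/

set_option autoImplicit false
set_option linter.style.haveILetI false

namespace Cfsg.Agent.L34Mult

open Matrix
open Cfsg.Agent.SylL34 (F4 fieldF4)

/-- A power. -/
def powP (g : P) : ℕ → P
  | 0 => pone
  | n + 1 => pmul (powP g n) g

theorem dec_powP (g : P) : ∀ n, dec (powP g n) = dec g ^ n
  | 0 => by rw [powP, dec_pone, pow_zero]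
  | n + 1 => by rw [powP, dec_pmul, dec_powP g n, pow_succ]

/-- Orders of the generators. -/
def ords : List ℕ := [4, 2, 2, 2, 2, 2, 2, 3, 3, 2, 2]

theorem gens_ok : ∀ s < 11, powP (gens.getD s pone) (ords.getD s 1 - 1 + 1) = pone ∧
    (gens.getD s pone).2.dec.det = 1 := by decide +kernel

theorem isUnit_gen {x : V} (hx : x ∈ gen 11) : IsUnit x := by
  induction hx using Submonoid.closure_induction with
  | mem y hy =>
    obtain ⟨s, hs, rfl⟩ := hy
    have h := congrArg dec (gens_ok s hs).1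
    rw [dec_powP, dec_pone] at h
    exact IsUnit.of_pow_eq_one h (Nat.succ_ne_zero _)
  | one => exact isUnit_one
  | mul y z _ _ hy hz => exact hy.mul hz

theorem det_gen {x : V} (hx : x ∈ gen 11) : x.2.det = 1 := by
  induction hx using Submonoid.closure_induction with
  | mem y hy =>
    obtain ⟨s, hs, rfl⟩ := hy
    exact (gens_ok s hs).2
  | one => exact Matrix.det_one
  | mul y z _ _ hy hz => rw [Prod.snd_mul, Matrix.det_mul, hy, hz, mul_one]

/-- The cover. -/
def Cov : Subgroup Vˣ :=
  let S : Submonoid Vˣ := (gen 11).comap (Units.coeHom V)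
  { S with
    inv_mem' := fun {g} hg => by
      have h1 : g⁻¹ = g ^ (orderOf g - 1) := by
        refine inv_eq_of_mul_eq_one_right ?_
        rw [← pow_succ', Nat.sub_add_cancel (orderOf_pos g), pow_orderOf_eq_one]
      show g⁻¹ ∈ S
      rw [h1]
      exact pow_mem hg _ }

/-- A member of the monoid as an element of the cover. -/
noncomputable def toCov (x : V) (hx : x ∈ gen 11) : Cov :=
  ⟨(isUnit_gen hx).unit, show ((isUnit_gen hx).unit : V) ∈ gen 11 by rw [IsUnit.unit_spec]; exact hx⟩

theorem toCov_val (x : V) (hx : x ∈ gen 11) : (((toCov x hx : Cov) : Vˣ) : V) = x := rfl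

/-- The covering map. -/
def covHom : Cov →* L34Cover.S3 where
  toFun x := ⟨((x : Vˣ) : V).2, det_gen x.2⟩
  map_one' := rfl
  map_mul' _ _ := rfl

theorem covHom_val (x : Cov) : (covHom x : Matrix (Fin 3) (Fin 3) F4) = ((x : Vˣ) : V).2 := rfl

theorem elTab_ok : ∀ i j : Fin 3, i ≠ j → ∀ t : F4, t ≠ 0 → ∃ d ∈ elTab,
    d.1 = (i, j, t) ∧ (value allReps d.2).2.dec = 1 + Matrix.single i j t := by decide +kernel

theorem covHom_surjective : Function.Surjective covHom := by
  intro g
  suffices g ∈ covHom.range from this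
  refine (Schur.SLn.closure_el (F := F4) (n := 3)).ge.trans ?_ (Subgroup.mem_top g)
  rw [Subgroup.closure_le]
  rintro _ ⟨i, j, hij, t, rfl⟩
  by_cases ht : t = 0
  · subst ht
    refine ⟨1, Subtype.ext ?_⟩
    rw [map_one, Schur.SLn.el_val hij, Matrix.single_zero, add_zero]
    rfl
  obtain ⟨d, -, -, hd⟩ := elTab_ok i j hij t ht
  refine ⟨toCov (dec (value allReps d.2)) (value_mem allReps allReps_mem d.2), Subtype.ext ?_⟩
  rw [covHom_val, toCov_val, Schur.SLn.el_val hij]
  exact hd

theorem card_S3 : Nat.card L34Cover.S3 = 60480 := by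
  rw [GL.card_SL_prod, SylL34.card_F4,
    show Finset.Ico 2 (3 + 1) = ({2, 3} : Finset ℕ) from rfl]
  norm_num

theorem card_Cov_le : Nat.card Cov ≤ 241920 := by
  refine le_trans ?_ card_gen
  exact Nat.card_le_card_of_injective (fun x : Cov => (⟨((x : Vˣ) : V), x.2⟩ : gen 11))
    fun x y e => Subtype.ext (Units.ext (congrArg Subtype.val e))

/-- The scalar `2` of order 4. -/
noncomputable def iC : Cov :=
  toCov (dec (gens.getD 0 pone)) (Submonoid.subset_closure ⟨0, by norm_num, rfl⟩)

/-- The lift of the scalar `ω`. -/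
noncomputable def wC : Cov :=
  toCov (dec (gens.getD 8 pone)) (Submonoid.subset_closure ⟨8, by norm_num, rfl⟩)

theorem scalar_val : dec (gens.getD 0 pone) = ((2 : ZMod 5) • (1 : Matrix (Fin 8) (Fin 8) (ZMod 5)), 1) ∧
    dec (gens.getD 8 pone) = (1, (⟨false, true⟩ : F4) • (1 : Matrix (Fin 3) (Fin 3) F4)) := by
  decide +kernel

theorem iC_central : iC ∈ Subgroup.center Cov := by
  rw [Subgroup.mem_center_iff]
  intro g
  apply Subtype.ext; apply Units.ext
  show ((g : Vˣ) : V) * dec (gens.getD 0 pone) = dec (gens.getD 0 pone) * ((g : Vˣ) : V)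
  rw [scalar_val.1]
  refine Prod.ext ?_ ?_ <;> simp [Algebra.smul_mul_assoc, Algebra.mul_smul_comm]

theorem wC_central : wC ∈ Subgroup.center Cov := by
  rw [Subgroup.mem_center_iff]
  intro g
  apply Subtype.ext; apply Units.ext
  show ((g : Vˣ) : V) * dec (gens.getD 8 pone) = dec (gens.getD 8 pone) * ((g : Vˣ) : V)
  rw [scalar_val.2]
  refine Prod.ext ?_ ?_ <;> simp [Algebra.smul_mul_assoc, Algebra.mul_smul_comm]

theorem covHom_iC : covHom iC = 1 := Subtype.ext (by
  show (dec (gens.getD 0 pone)).2 = _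
  rw [scalar_val.1]; rfl)

theorem iC_pow_val : ∀ n : ℕ, (((iC ^ n : Cov) : Vˣ) : V) = dec (powP (gens.getD 0 pone) n) := fun n => by
  rw [dec_powP]; rfl

theorem iC_powers : ∀ a b : Fin 4, (dec (powP (gens.getD 0 pone) a.val)).1 0 0 =
    (dec (powP (gens.getD 0 pone) b.val)).1 0 0 → a = b := by decide +kernel

theorem iC_pow_inj {a b : Fin 4} (h : iC ^ (a : ℕ) = iC ^ (b : ℕ)) : a = b := by
  have h' := congrArg (fun x : Cov => ((x : Vˣ) : V).1 0 0) h
  simp only [iC_pow_val] at h'
  exact iC_powers a b h'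

theorem ker_covHom {x : Cov} (hx : covHom x = 1) : ∃ a : Fin 4, x = iC ^ (a : ℕ) := by
  by_contra hne
  push Not at hne
  have h1 : Nat.card covHom.ker * Nat.card L34Cover.S3 = Nat.card Cov := by
    rw [← Nat.card_congr (QuotientGroup.quotientKerEquivOfSurjective covHom covHom_surjective).toEquiv,
      mul_comm]
    exact (Subgroup.card_eq_card_quotient_mul_card_subgroup _).symm
  let f : Option (Fin 4) → covHom.ker := fun o => o.elim ⟨x, hx⟩ fun a =>
    ⟨iC ^ (a : ℕ), by rw [MonoidHom.mem_ker, map_pow, covHom_iC, one_pow]⟩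
  have hf : Function.Injective f := by
    rintro (_ | a) (_ | b) e <;> have e' := congrArg Subtype.val e
    · rfl
    · exact absurd e' (hne b)
    · exact absurd e'.symm (hne a)
    · exact congrArg some (iC_pow_inj e')
  have h2 := Nat.card_le_card_of_injective f hf
  rw [Nat.card_eq_fintype_card (α := Option (Fin 4)), Fintype.card_option, Fintype.card_fin] at h2
  have h4 := card_Cov_le
  rw [card_S3] at h1
  omega

/-- Everything over a scalar is central. -/
theorem central_of_scalar {x : Cov} (hx : covHom x ∈ Subgroup.center L34Cover.S3) :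
    x ∈ Subgroup.center Cov := by
  obtain ⟨r, hr, h⟩ := L34Cover.exists_scalar hx
  have hr' : ∀ r : F4, r ^ 3 = 1 → r = 1 ∨ r = ⟨false, true⟩ ∨ r = ⟨true, true⟩ := by decide +kernel
  obtain ⟨k, hk⟩ : ∃ k : ℕ, covHom (wC ^ k) = covHom x := by
    have hw : (covHom wC : Matrix (Fin 3) (Fin 3) F4) = Matrix.scalar (Fin 3) (⟨false, true⟩ : F4) := by
      show (dec (gens.getD 8 pone)).2 = _
      rw [scalar_val.2, Matrix.smul_one_eq_diagonal]
      rfl
    rcases hr' r hr with rfl | rfl | rfl
    · exact ⟨0, Subtype.ext (by rw [pow_zero, map_one, h, map_one]; rfl)⟩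
    · exact ⟨1, Subtype.ext (by rw [pow_one, hw, h])⟩
    · exact ⟨2, Subtype.ext (by
        rw [map_pow, Matrix.SpecialLinearGroup.coe_pow, hw, h, ← map_pow]
        exact congrArg _ (by decide +kernel))⟩
  obtain ⟨a, ha⟩ := ker_covHom (x := (wC ^ k)⁻¹ * x) (by rw [map_mul, map_inv, hk, inv_mul_cancel])
  rw [show x = wC ^ k * iC ^ (a : ℕ) by rw [← ha, mul_inv_cancel_left]]
  exact mul_mem (pow_mem wC_central k) (pow_mem iC_central _)

end Cfsg.Agent.L34Mult
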