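import Cfsg.Agent.Lib.L34Mult.Group
import Cfsg.Agent.Lib.L34Mult.Bound
import Cfsg.Agent.Lib.Schur.FibreProduct

/-!
The Schur multiplier of `PSL₃(4)` is `Z₃ × Z₄ × Z₄`.
-/

set_option autoImplicit false
set_option linter.style.haveILetI false

namespace Cfsg.Agent.L34Mult

open Matrix
open Cfsg.Agent.SylL34 (F4 fieldF4)
open Cfsg.Agent.L34Cover (S3)
open scoped commutatorElement

/-- The diagonal matrices giving the outer automorphism of order 3. -/
def Dm (b : Bool) : Matrix (Fin 3) (Fin 3) F4 :=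
  Matrix.diagonal ![if b then ⟨false, true⟩ else ⟨true, true⟩, 1, 1]

theorem Dm_facts : (∀ b, Dm b * Dm (!b) = 1) ∧ ∀ b, (Dm b).det * (Dm (!b)).det = 1 := by decide +kernel

/-- The diagonal automorphism. -/
def dl (b : Bool) : S3 →* S3 where
  toFun g := ⟨Dm b * g.1 * Dm (!b), by
    rw [Matrix.det_mul, Matrix.det_mul, g.2, mul_one, Dm_facts.2 b]⟩
  map_one' := Subtype.ext (by
    show Dm b * 1 * Dm (!b) = 1
    rw [mul_one, Dm_facts.1 b])
  map_mul' g h := Subtype.ext (by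
    have h0 := Dm_facts.1 (!b)
    rw [Bool.not_not] at h0
    show Dm b * (g.1 * h.1) * Dm (!b) = Dm b * g.1 * Dm (!b) * (Dm b * h.1 * Dm (!b))
    simp only [mul_assoc]
    rw [← mul_assoc (Dm (!b)) (Dm b), h0, one_mul])

theorem dl_dl (b : Bool) (g : S3) : dl (!b) (dl b g) = g := Subtype.ext (by
  have h0 := Dm_facts.1 (!b)
  rw [Bool.not_not] at h0
  show Dm (!b) * (Dm b * g.1 * Dm (!b)) * Dm (!(!b)) = g.1
  rw [Bool.not_not]
  calc Dm (!b) * (Dm b * g.1 * Dm (!b)) * Dm b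
      = (Dm (!b) * Dm b) * g.1 * (Dm (!b) * Dm b) := by simp only [mul_assoc]
    _ = g.1 := by rw [h0, one_mul, mul_one])

/-- The twisted covering map. -/
def twCov : Cov →* S3 := (dl true).comp covHom

theorem twCov_surjective : Function.Surjective twCov := fun g => by
  obtain ⟨x, hx⟩ := covHom_surjective (dl false g)
  exact ⟨x, by show dl true (covHom x) = g; rw [hx]; exact dl_dl false g⟩

theorem dl_scalar {g : S3} (hg : g ∈ Subgroup.center S3) : dl true g = g := by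
  obtain ⟨r, -, h⟩ := L34Cover.exists_scalar hg
  refine Subtype.ext ?_
  show Dm true * g.1 * Dm false = g.1
  rw [h, ← (Matrix.scalar_commute r (fun r' => mul_comm r r') (Dm true)).eq, mul_assoc, show Dm true * Dm false = 1 from Dm_facts.1 true,
    mul_one]

/-- The fibre product. -/
noncomputable abbrev Quad : Subgroup (Cov × Cov) := Schur.fibre covHom twCov

/-- The map onto `SL₃(4)`. -/
noncomputable def quadS : Quad →* S3 := covHom.comp (Schur.fibreFst covHom twCov)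

/-- The covering map. -/
noncomputable def quadHom : Quad →* L34Cover.G := L34Cover.mk.comp quadS

theorem mem_ker_quad {x : Quad} (hx : x ∈ quadHom.ker) :
    covHom (x : Cov × Cov).1 ∈ Subgroup.center S3 ∧
      covHom (x : Cov × Cov).2 = covHom (x : Cov × Cov).1 := by
  have h1 : covHom (x : Cov × Cov).1 ∈ Subgroup.center S3 := (QuotientGroup.eq_one_iff _).1 hx
  refine ⟨h1, ?_⟩
  have h2 : covHom (x : Cov × Cov).1 = dl true (covHom (x : Cov × Cov).2) := Schur.mem_fibre.1 x.2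
  have h3 := congrArg (dl false) h2
  rw [show dl false (dl true (covHom (x : Cov × Cov).2)) = covHom (x : Cov × Cov).2 from dl_dl true _] at h3
  have h4 : dl false (covHom (x : Cov × Cov).1) = covHom (x : Cov × Cov).1 := by
    conv_lhs => rw [← dl_scalar h1]
    exact dl_dl true _
  rw [← h3, h4]

/-- Digits of the witnesses: for each, four pairs with their inverses. -/
def wit (k : Bool) (i : Fin 4) : Fin 4 → List ℕ :=
  if k then ![![[0, 5], [0, 5], [0, 5], [0, 5]], ![[0, 4], [0, 4], [0, 2], [0, 2]],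
    ![[0, 54], [0, 46], [0, 53], [0, 34]], ![[0, 50], [0, 30], [0, 22], [0, 17]]] i
  else ![![[0, 5], [0, 5], [0, 5], [0, 5]], ![[0, 4], [0, 4], [0, 2], [0, 2]],
    ![[0, 25], [0, 18], [0, 24], [0, 11]], ![[0, 60], [2, 59], [0, 54], [0, 46]]] i

/-- The packed element of a witness. -/
def wP (k : Bool) (i j : Fin 4) : P := value allReps (wit k i j)

/-- The product of two commutators in one coordinate. -/
def comm2 (k : Bool) (a a' : Fin 4) : P :=
  pmul (pmul (pmul (pmul (wP k 0 a) (wP k 1 a)) (wP k 0 a')) (wP k 1 a'))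
    (pmul (pmul (pmul (wP k 2 a) (wP k 3 a)) (wP k 2 a')) (wP k 3 a'))

theorem wit_ok : ∀ k i,
    pmul (wP k i 0) (wP k i 1) = pone ∧ pmul (wP k i 2) (wP k i 3) = pone ∧
      (wP k i 0).2.dec = Dm true * (wP k i 2).2.dec * Dm false := by decide +kernel

theorem comm2_ok : comm2 false 0 1 = gens.getD 0 pone ∧ comm2 false 2 3 = pone ∧
    comm2 true 0 1 = pone ∧ comm2 true 2 3 = gens.getD 0 pone := by decide +kernel

/-- A witness coordinate in the cover. -/
noncomputable def wC' (k : Bool) (i j : Fin 4) : Cov :=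
  toCov (dec (wP k i j)) (value_mem allReps allReps_mem _)

theorem wC'_val (k : Bool) (i j : Fin 4) : (((wC' k i j : Cov) : Vˣ) : V) = dec (wP k i j) := rfl

theorem wC'_inv (k : Bool) (i : Fin 4) :
    (wC' k i 0)⁻¹ = wC' k i 1 ∧ (wC' k i 2)⁻¹ = wC' k i 3 := by
  constructor <;> refine inv_eq_of_mul_eq_one_right (Subtype.ext (Units.ext ?_))
  · show (((wC' k i 0 : Cov) : Vˣ) : V) * (((wC' k i 1 : Cov) : Vˣ) : V) = 1
    rw [wC'_val, wC'_val, ← dec_pmul, (wit_ok k i).1, dec_pone]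
  · show (((wC' k i 2 : Cov) : Vˣ) : V) * (((wC' k i 3 : Cov) : Vˣ) : V) = 1
    rw [wC'_val, wC'_val, ← dec_pmul, (wit_ok k i).2.1, dec_pone]

/-- A witness in the fibre product. -/
noncomputable def qW (k : Bool) (i : Fin 4) : Quad :=
  ⟨(wC' k i 0, wC' k i 2), Schur.mem_fibre.2 (Subtype.ext (by
    show (((wC' k i 0 : Cov) : Vˣ) : V).2 = Dm true * (((wC' k i 2 : Cov) : Vˣ) : V).2 * Dm false
    rw [wC'_val, wC'_val]
    exact (wit_ok k i).2.2))⟩

/-- The witness. -/
noncomputable def wQ (k : Bool) : Quad := ⁅qW k 0, qW k 1⁆ * ⁅qW k 2, qW k 3⁆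

theorem wQ_mem (k : Bool) : wQ k ∈ _root_.commutator Quad :=
  mul_mem (Subgroup.commutator_mem_commutator (Subgroup.mem_top _) (Subgroup.mem_top _))
    (Subgroup.commutator_mem_commutator (Subgroup.mem_top _) (Subgroup.mem_top _))

theorem wQ_val : ((wQ false : Quad) : Cov × Cov) = (iC, 1) ∧ ((wQ true : Quad) : Cov × Cov) = (1, iC) := by
  have h1 : ∀ k, ((wQ k : Quad) : Cov × Cov).1 = ⁅wC' k 0 0, wC' k 1 0⁆ * ⁅wC' k 2 0, wC' k 3 0⁆ :=
    fun k => rfl
  have h2 : ∀ k, ((wQ k : Quad) : Cov × Cov).2 = ⁅wC' k 0 2, wC' k 1 2⁆ * ⁅wC' k 2 2, wC' k 3 2⁆ :=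
    fun k => rfl
  have hA : ∀ k, (((⁅wC' k 0 0, wC' k 1 0⁆ * ⁅wC' k 2 0, wC' k 3 0⁆ : Cov) : Vˣ) : V) = dec (comm2 k 0 1) := by
    intro k
    simp only [commutatorElement_def, (wC'_inv k _).1, Subgroup.coe_mul, Units.val_mul, wC'_val, comm2,
      dec_pmul]
  have hB : ∀ k, (((⁅wC' k 0 2, wC' k 1 2⁆ * ⁅wC' k 2 2, wC' k 3 2⁆ : Cov) : Vˣ) : V) = dec (comm2 k 2 3) := by
    intro k
    simp only [commutatorElement_def, (wC'_inv k _).2, Subgroup.coe_mul, Units.val_mul, wC'_val, comm2,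
      dec_pmul]
  obtain ⟨c1, c2, c3, c4⟩ := comm2_ok
  refine ⟨Prod.ext ?_ ?_, Prod.ext ?_ ?_⟩
  · rw [h1]; exact Subtype.ext (Units.ext (by rw [hA, c1]; rfl))
  · rw [h2]; exact Subtype.ext (Units.ext (by rw [hB, c2, dec_pone]; rfl))
  · rw [h1]; exact Subtype.ext (Units.ext (by rw [hA, c3, dec_pone]; rfl))
  · rw [h2]; exact Subtype.ext (Units.ext (by rw [hB, c4]; rfl))

theorem perfect_S3 : _root_.commutator S3 = ⊤ := by
  rw [eq_top_iff, ← Schur.SLn.closure_el (F := F4) (n := 3), Subgroup.closure_le]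
  rintro _ ⟨i, j, hij, t, rfl⟩
  obtain ⟨l, hl⟩ : ∃ l, i ≠ l ∧ l ≠ j := by revert i j; decide
  rw [← mul_one t, ← Schur.SLn.el_chain hl.1 hl.2 hij t 1]
  exact Subgroup.commutator_mem_commutator (Subgroup.mem_top _) (Subgroup.mem_top _)

theorem quadS_surjective : Function.Surjective quadS :=
  covHom_surjective.comp (Schur.fibreFst_surjective _ twCov_surjective)

theorem quad_stem : Cfsg.IsStemExtension quadHom := by
  refine ⟨L34Cover.mk_surjective.comp quadS_surjective, ?_, ?_⟩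
  · intro x hx
    obtain ⟨h1, h2⟩ := mem_ker_quad hx
    exact Subgroup.mem_center_iff.2 fun g => Subtype.ext (Prod.ext
      (Subgroup.mem_center_iff.1 (central_of_scalar h1) _)
      (Subgroup.mem_center_iff.1 (central_of_scalar (h2 ▸ h1)) _))
  · intro x hx
    obtain ⟨h1, h2⟩ := mem_ker_quad hx
    have hD : (_root_.commutator Quad).map quadS = ⊤ := by
      rw [_root_.commutator_def, Subgroup.map_commutator, ← MonoidHom.range_eq_map,
        MonoidHom.range_eq_top.2 quadS_surjective]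
      exact perfect_S3
    obtain ⟨d, hd, hdx⟩ : covHom (x : Cov × Cov).1 ∈ (_root_.commutator Quad).map quadS := by
      rw [hD]; exact Subgroup.mem_top _
    have hdk : d ∈ quadHom.ker := by
      show L34Cover.mk (quadS d) = 1
      rw [hdx]
      exact hx
    obtain ⟨e1, e2⟩ := mem_ker_quad hdk
    have hdx' : covHom (d : Cov × Cov).1 = covHom (x : Cov × Cov).1 := hdx
    obtain ⟨a, ha⟩ := ker_covHom (x := (d : Cov × Cov).1⁻¹ * (x : Cov × Cov).1)
      (by rw [map_mul, map_inv, hdx', inv_mul_cancel])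
    obtain ⟨b, hb⟩ := ker_covHom (x := (d : Cov × Cov).2⁻¹ * (x : Cov × Cov).2)
      (by rw [map_mul, map_inv, h2, e2, hdx', inv_mul_cancel])
    have e : x = d * (wQ false ^ (a : ℕ) * wQ true ^ (b : ℕ)) := by
      refine Subtype.ext ?_
      rw [Subgroup.coe_mul, Subgroup.coe_mul, Subgroup.coe_pow, Subgroup.coe_pow, wQ_val.1, wQ_val.2]
      refine Prod.ext ?_ ?_
      · simp [← ha]
      · simp [← hb]
    rw [e]
    exact mul_mem hd (mul_mem (pow_mem (wQ_mem _) _) (pow_mem (wQ_mem _) _))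

theorem wC_pow_val : ∀ n : ℕ, (((wC ^ n : Cov) : Vˣ) : V) = dec (powP (gens.getD 8 pone) n) := fun n => by
  rw [dec_powP]; rfl

theorem ker_param_inj : ∀ x y : Fin 4 × Fin 4 × Fin 3,
    (dec (pmul (powP (gens.getD 0 pone) x.1.val) (powP (gens.getD 8 pone) x.2.2.val))).1 0 0 =
      (dec (pmul (powP (gens.getD 0 pone) y.1.val) (powP (gens.getD 8 pone) y.2.2.val))).1 0 0 →
    (dec (pmul (powP (gens.getD 0 pone) x.2.1.val) (powP (gens.getD 8 pone) x.2.2.val))).1 0 0 =
      (dec (pmul (powP (gens.getD 0 pone) y.2.1.val) (powP (gens.getD 8 pone) y.2.2.val))).1 0 0 →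
    (dec (powP (gens.getD 8 pone) x.2.2.val)).2 0 0 = (dec (powP (gens.getD 8 pone) y.2.2.val)).2 0 0 →
    x = y := by decide +kernel

theorem card_ker_quad : 48 ≤ Nat.card quadHom.ker := by
  have hsc : covHom wC ∈ Subgroup.center S3 := by
    rw [Matrix.SpecialLinearGroup.mem_center_iff]
    refine ⟨⟨false, true⟩, by simp; decide +kernel, ?_⟩
    show _ = (dec (gens.getD 8 pone)).2
    rw [scalar_val.2, Matrix.smul_one_eq_diagonal]
    rfl
  have hmem : ∀ a b c : ℕ, covHom (iC ^ a * wC ^ c) = twCov (iC ^ b * wC ^ c) := by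
    intro a b c
    show _ = dl true (covHom _)
    rw [map_mul, map_mul, map_pow, map_pow, map_pow, covHom_iC, one_pow, one_pow, one_mul,
      dl_scalar (pow_mem hsc _)]
  let f : Fin 4 × Fin 4 × Fin 3 → quadHom.ker := fun x =>
    ⟨⟨(iC ^ (x.1 : ℕ) * wC ^ (x.2.2 : ℕ), iC ^ (x.2.1 : ℕ) * wC ^ (x.2.2 : ℕ)),
      Schur.mem_fibre.2 (hmem _ _ _)⟩, by
        show L34Cover.mk (covHom (iC ^ (x.1 : ℕ) * wC ^ (x.2.2 : ℕ))) = 1
        rw [map_mul, map_pow, map_pow, covHom_iC, one_pow, one_mul]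
        exact (QuotientGroup.eq_one_iff _).2 (pow_mem hsc _)⟩
  have hf : Function.Injective f := by
    intro x y e
    have e1 := congrArg (fun z : quadHom.ker => (((z : Quad) : Cov × Cov).1 : Vˣ)) e
    have e2 := congrArg (fun z : quadHom.ker => (((z : Quad) : Cov × Cov).2 : Vˣ)) e
    have hv : ∀ a c : ℕ, (((iC ^ a * wC ^ c : Cov) : Vˣ) : V) =
        dec (pmul (powP (gens.getD 0 pone) a) (powP (gens.getD 8 pone) c)) := fun a c => by
      rw [dec_pmul, Subgroup.coe_mul, Units.val_mul, iC_pow_val, wC_pow_val]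
    have e1' := congrArg (fun u : Vˣ => (u : V)) e1
    have e2' := congrArg (fun u : Vˣ => (u : V)) e2
    simp only [f, hv] at e1' e2'
    refine ker_param_inj x y (congrArg (fun v : V => v.1 0 0) e1') (congrArg (fun v : V => v.1 0 0) e2') ?_
    have h3 : ∀ a, (dec (powP (gens.getD 0 pone) a)).2 = 1 := fun a => by
      rw [dec_powP, Prod.pow_snd, scalar_val.1, one_pow]
    have e3 := congrArg Prod.snd e1'
    simp only [dec_pmul, Prod.snd_mul, h3, one_mul] at e3
    rw [e3]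
  simpa using Nat.card_le_card_of_injective f hf

/-- The kernel of a stem extension is an image of `Z₃ × Z₄ × Z₄`. -/
theorem exists_surjective {Γ : Type*} [Group Γ] [Finite Γ] (σ : Γ →* L34Cover.G)
    (hσ : Cfsg.IsStemExtension σ) :
    ∃ π : Multiplicative (ZMod 3 × ZMod 4 × ZMod 4) →* σ.ker, Function.Surjective π := by
  obtain ⟨e, g₁, g₂, he, hg₁, hg₂, he3, h1, h2, hle⟩ := exists_generators σ hσ
  letI : CommGroup σ.ker :=
    { (inferInstance : Group σ.ker) with
      mul_comm := fun x y => Subtype.ext (Subgroup.mem_center_iff.1 (hσ.2.1 y.2) x) }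
  let φ : ∀ {n : ℕ} (g : σ.ker), g ^ n = 1 → (Multiplicative (ZMod n) →* σ.ker) := fun {n} g hg =>
    (ZMod.lift n ⟨zmultiplesHom (Additive σ.ker) (Additive.ofMul g), by
      rw [zmultiplesHom_apply, natCast_zsmul, ← ofMul_pow, hg, ofMul_one]⟩).toMultiplicativeLeft
  have hφ1 : ∀ {n : ℕ} (g : σ.ker) (hg : g ^ n = 1), φ g hg (Multiplicative.ofAdd ((1 : ℤ) : ZMod n)) = g :=
    fun {n} g hg => by
      show Additive.toMul (ZMod.lift n _ ((1 : ℤ) : ZMod n)) = g
      rw [ZMod.lift_coe]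
      simp
  let a : σ.ker := ⟨e, he⟩
  let b : σ.ker := ⟨g₁, hg₁⟩
  let c : σ.ker := ⟨g₂, hg₂⟩
  let π : Multiplicative (ZMod 3 × ZMod 4 × ZMod 4) →* σ.ker :=
    (φ a (Subtype.ext he3)).comp (AddMonoidHom.fst _ _).toMultiplicative *
      ((φ b (Subtype.ext h1)).comp
        ((AddMonoidHom.fst _ _).comp (AddMonoidHom.snd _ _)).toMultiplicative *
      (φ c (Subtype.ext h2)).comp
        ((AddMonoidHom.snd _ _).comp (AddMonoidHom.snd _ _)).toMultiplicative)
  refine ⟨π, fun z => ?_⟩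
  suffices (z : Γ) ∈ π.range.map σ.ker.subtype by
    obtain ⟨w, ⟨v, rfl⟩, hw⟩ := this
    exact ⟨v, Subtype.ext hw⟩
  refine (Subgroup.closure_le _).2 ?_ (hle z.2)
  have key : ∀ v : σ.ker, v ∈ π.range → (v : Γ) ∈ π.range.map σ.ker.subtype := fun v hv =>
    ⟨v, hv, rfl⟩
  intro w hw
  simp only [Set.mem_insert_iff, Set.mem_singleton_iff] at hw
  rcases hw with hw | hw | hw <;> subst hw
  · refine key a ⟨Multiplicative.ofAdd (((1 : ℤ) : ZMod 3), 0, 0), ?_⟩
    simpa [π] using hφ1 a (Subtype.ext he3)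
  · refine key b ⟨Multiplicative.ofAdd (0, ((1 : ℤ) : ZMod 4), 0), ?_⟩
    simpa [π] using hφ1 b (Subtype.ext h1)
  · refine key c ⟨Multiplicative.ofAdd (0, 0, ((1 : ℤ) : ZMod 4)), ?_⟩
    simpa [π] using hφ1 c (Subtype.ext h2)

end Cfsg.Agent.L34Mult
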