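import Cfsg.Agent.Lib.SylL34.L34

/-!
Packed pairs of an `8 × 8` matrix over `F₅` and a `3 × 3` matrix over `F₄`, multiplied quickly by the kernel.
-/

set_option autoImplicit false

namespace Cfsg.Agent.L34Mult

open Matrix
open Cfsg.Agent.SylL34 (F4)

/-- A row. -/
structure V8 where
  /-- An entry. -/
  x0 : ℕ
  /-- An entry. -/
  x1 : ℕ
  /-- An entry. -/
  x2 : ℕ
  /-- An entry. -/
  x3 : ℕ
  /-- An entry. -/
  x4 : ℕ
  /-- An entry. -/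
  x5 : ℕ
  /-- An entry. -/
  x6 : ℕ
  /-- An entry. -/
  x7 : ℕ
deriving DecidableEq

/-- A matrix of order eight. -/
structure M8 where
  /-- An entry. -/
  r0 : V8
  /-- An entry. -/
  r1 : V8
  /-- An entry. -/
  r2 : V8
  /-- An entry. -/
  r3 : V8
  /-- An entry. -/
  r4 : V8
  /-- An entry. -/
  r5 : V8
  /-- An entry. -/
  r6 : V8
  /-- An entry. -/
  r7 : V8
deriving DecidableEq

/-- A matrix of order three. -/
structure M3 where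
  /-- An entry. -/
  a00 : F4
  /-- An entry. -/
  a01 : F4
  /-- An entry. -/
  a02 : F4
  /-- An entry. -/
  a10 : F4
  /-- An entry. -/
  a11 : F4
  /-- An entry. -/
  a12 : F4
  /-- An entry. -/
  a20 : F4
  /-- An entry. -/
  a21 : F4
  /-- An entry. -/
  a22 : F4
deriving DecidableEq

/-- A row times a matrix, reduced. -/
def comb (a : V8) (B : M8) : V8 :=
  ⟨(a.x0 * B.r0.x0 + a.x1 * B.r1.x0 + a.x2 * B.r2.x0 + a.x3 * B.r3.x0 + a.x4 * B.r4.x0 + a.x5 * B.r5.x0 + a.x6 * B.r6.x0 + a.x7 * B.r7.x0) % 5,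
    (a.x0 * B.r0.x1 + a.x1 * B.r1.x1 + a.x2 * B.r2.x1 + a.x3 * B.r3.x1 + a.x4 * B.r4.x1 + a.x5 * B.r5.x1 + a.x6 * B.r6.x1 + a.x7 * B.r7.x1) % 5,
    (a.x0 * B.r0.x2 + a.x1 * B.r1.x2 + a.x2 * B.r2.x2 + a.x3 * B.r3.x2 + a.x4 * B.r4.x2 + a.x5 * B.r5.x2 + a.x6 * B.r6.x2 + a.x7 * B.r7.x2) % 5,
    (a.x0 * B.r0.x3 + a.x1 * B.r1.x3 + a.x2 * B.r2.x3 + a.x3 * B.r3.x3 + a.x4 * B.r4.x3 + a.x5 * B.r5.x3 + a.x6 * B.r6.x3 + a.x7 * B.r7.x3) % 5,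
    (a.x0 * B.r0.x4 + a.x1 * B.r1.x4 + a.x2 * B.r2.x4 + a.x3 * B.r3.x4 + a.x4 * B.r4.x4 + a.x5 * B.r5.x4 + a.x6 * B.r6.x4 + a.x7 * B.r7.x4) % 5,
    (a.x0 * B.r0.x5 + a.x1 * B.r1.x5 + a.x2 * B.r2.x5 + a.x3 * B.r3.x5 + a.x4 * B.r4.x5 + a.x5 * B.r5.x5 + a.x6 * B.r6.x5 + a.x7 * B.r7.x5) % 5,
    (a.x0 * B.r0.x6 + a.x1 * B.r1.x6 + a.x2 * B.r2.x6 + a.x3 * B.r3.x6 + a.x4 * B.r4.x6 + a.x5 * B.r5.x6 + a.x6 * B.r6.x6 + a.x7 * B.r7.x6) % 5,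
    (a.x0 * B.r0.x7 + a.x1 * B.r1.x7 + a.x2 * B.r2.x7 + a.x3 * B.r3.x7 + a.x4 * B.r4.x7 + a.x5 * B.r5.x7 + a.x6 * B.r6.x7 + a.x7 * B.r7.x7) % 5⟩

/-- The product. -/
def M8.mul (A B : M8) : M8 := ⟨comb A.r0 B, comb A.r1 B, comb A.r2 B, comb A.r3 B, comb A.r4 B, comb A.r5 B, comb A.r6 B, comb A.r7 B⟩

/-- The product. -/
def M3.mul (A B : M3) : M3 :=
  ⟨A.a00 * B.a00 + A.a01 * B.a10 + A.a02 * B.a20,
    A.a00 * B.a01 + A.a01 * B.a11 + A.a02 * B.a21,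
    A.a00 * B.a02 + A.a01 * B.a12 + A.a02 * B.a22,
    A.a10 * B.a00 + A.a11 * B.a10 + A.a12 * B.a20,
    A.a10 * B.a01 + A.a11 * B.a11 + A.a12 * B.a21,
    A.a10 * B.a02 + A.a11 * B.a12 + A.a12 * B.a22,
    A.a20 * B.a00 + A.a21 * B.a10 + A.a22 * B.a20,
    A.a20 * B.a01 + A.a21 * B.a11 + A.a22 * B.a21,
    A.a20 * B.a02 + A.a21 * B.a12 + A.a22 * B.a22⟩

/-- Entries of a row. -/
def V8.get (a : V8) : Fin 8 → ℕ := ![a.x0, a.x1, a.x2, a.x3, a.x4, a.x5, a.x6, a.x7]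

/-- Rows. -/
def M8.row (A : M8) : Fin 8 → V8 := ![A.r0, A.r1, A.r2, A.r3, A.r4, A.r5, A.r6, A.r7]

/-- The matrix over `ZMod 5`. -/
def M8.dec (A : M8) : Matrix (Fin 8) (Fin 8) (ZMod 5) := Matrix.of fun i j => ((A.row i).get j : ZMod 5)

/-- The matrix over `F₄`. -/
def M3.dec (A : M3) : Matrix (Fin 3) (Fin 3) F4 := !![A.a00, A.a01, A.a02; A.a10, A.a11, A.a12; A.a20, A.a21, A.a22]

set_option maxHeartbeats 1000000 in
theorem comb_get (a : V8) (B : M8) (j : Fin 8) :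
    (((comb a B).get j : ℕ) : ZMod 5) = ∑ k : Fin 8, (a.get k : ZMod 5) * ((B.row k).get j : ZMod 5) := by
  fin_cases j <;> simp [comb, V8.get, M8.row, Fin.sum_univ_eight, ZMod.natCast_mod]

theorem row_mul (A B : M8) (i : Fin 8) : (A.mul B).row i = comb (A.row i) B := by
  fin_cases i <;> rfl

theorem M8.dec_mul (A B : M8) : (A.mul B).dec = A.dec * B.dec := by
  ext i j
  simp only [M8.dec, Matrix.of_apply, Matrix.mul_apply, row_mul, comb_get]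

theorem M3.dec_mul (A B : M3) : (A.mul B).dec = A.dec * B.dec := by
  ext i j
  fin_cases i <;> fin_cases j <;> simp [M3.mul, M3.dec, Matrix.mul_apply, Fin.sum_univ_three]

/-- Packed pairs. -/
abbrev P := M8 × M3

/-- Pairs of matrices. -/
abbrev V := Matrix (Fin 8) (Fin 8) (ZMod 5) × Matrix (Fin 3) (Fin 3) F4

/-- The product. -/
def pmul (x y : P) : P := (x.1.mul y.1, x.2.mul y.2)

/-- The pair of matrices. -/
def dec (x : P) : V := (x.1.dec, x.2.dec)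

theorem dec_pmul (x y : P) : dec (pmul x y) = dec x * dec y :=
  Prod.ext (M8.dec_mul x.1 y.1) (M3.dec_mul x.2 y.2)

end Cfsg.Agent.L34Mult
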